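import Cfsg.Agent.Lib.CharDeep.ExtraExtend.Virt
import Mathlib.RingTheory.ZMod.UnitsCyclic
import Mathlib.GroupTheory.SpecificGroups.Cyclic

/-!
# The case of a fixed-point-free automorphism of prime order

A 2-group of automorphisms normalizing a fixed-point-free automorphism of odd prime order is
realized by matrices intertwining the faithful irreducible representation.
-/

namespace CfsgLib.CharDeep.ExtraExtend

open Matrix ComplexConjugate

variable {E : Type*} [Group E] [Finite E] {z : E} {ι : Type} [Fintype ι] [DecidableEq ι]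
  {R : E →* Matrix ι ι ℂ}

omit [Finite E] in
theorem Tw.zpow {a : MulAut E} {A : (Matrix ι ι ℂ)ˣ} (hA : Tw R a A) (i : ℤ) :
    Tw R (a ^ i) ((A ^ i : (Matrix ι ι ℂ)ˣ) : Matrix ι ι ℂ) := by
  rcases Int.eq_nat_or_neg i with ⟨n, rfl | rfl⟩
  · simpa only [zpow_natCast, Units.val_pow_eq_pow_val] using hA.pow n
  · simp only [_root_.zpow_neg, zpow_natCast]
    exact Tw.inv (A := A ^ n) (by simpa only [Units.val_pow_eq_pow_val] using hA.pow n)

/-- A scalar multiple of a unit. -/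
noncomputable def scal (c : ℂˣ) (A : (Matrix ι ι ℂ)ˣ) : (Matrix ι ι ℂ)ˣ :=
  Units.map (algebraMap ℂ (Matrix ι ι ℂ)).toMonoidHom c * A

theorem coe_scal (c : ℂˣ) (A : (Matrix ι ι ℂ)ˣ) :
    (scal c A : Matrix ι ι ℂ) = (c : ℂ) • (A : Matrix ι ι ℂ) := by
  show algebraMap ℂ (Matrix ι ι ℂ) (c : ℂ) * _ = _
  rw [← Algebra.smul_def]

omit [Finite E] in
theorem Tw.scal {a : MulAut E} {A : (Matrix ι ι ℂ)ˣ} (hA : Tw R a A) (c : ℂˣ) :
    Tw R a (ExtraExtend.scal c A : Matrix ι ι ℂ) := by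
  rw [coe_scal]
  exact hA.smul c

theorem exists_root {n : ℕ} (hn : 0 < n) (c : ℂˣ) : ∃ w : ℂˣ, w ^ n = c := by
  obtain ⟨u, hu⟩ := IsAlgClosed.exists_pow_nat_eq (c : ℂ) hn
  have hu0 : u ≠ 0 := by
    rintro rfl
    rw [zero_pow hn.ne'] at hu
    exact c.ne_zero hu.symm
  exact ⟨Units.mk0 u hu0, Units.ext (by simpa using hu)⟩

variable (h : Sp z) (hR : GR z R)

include h hR in
/-- Intertwiners of the same automorphism differ by a non-zero scalar. -/
theorem exists_scal {a : MulAut E} {A B : (Matrix ι ι ℂ)ˣ} (hA : Tw R a A) (hB : Tw R a B) :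
    ∃ c : ℂˣ, B = scal c A := by
  obtain ⟨c, hc⟩ := hR.unique h hA hB
  have : Nonempty ι := Fintype.card_pos_iff.1 hR.card_pos
  have hc0 : c ≠ 0 := by
    rintro rfl
    rw [zero_smul] at hc
    exact B.ne_zero hc
  exact ⟨Units.mk0 c hc0, Units.ext (by rw [coe_scal]; exact hc)⟩

include h hR in
/-- Trace of absolute value one, hence non-zero. -/
theorem trace_ne_zero {a : MulAut E} {A : (Matrix ι ι ℂ)ˣ} (hA : Tw R a A)
    (hfix : ∀ e, e * (a e)⁻¹ ∈ Zs h → e ∈ Zs h) : trace (A : Matrix ι ι ℂ) ≠ 0 := fun h0 => by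
  have h1 := hR.trace_mul_trace_inv h hA hfix
  rw [h0, zero_mul] at h1
  exact zero_ne_one h1

variable {q : ℕ} [hq : Fact q.Prime] {m : MulAut E}

include h in
/-- `m ^ r * c` has no fixed point modulo `{1, z}`. -/
theorem fpf_mul (hodd : Odd q) (hm : m ^ q = 1) (hfix : fix (Subgroup.zpowers m) ≤ Zs h)
    {c : MulAut E} (hc : m * c = c * m) {k : ℕ} (hck : c ^ 2 ^ k = 1) {r : ℕ} (hr : ¬ q ∣ r)
    (e : E) (he : e * ((m ^ r * c) e)⁻¹ ∈ Zs h) : e ∈ Zs h := by
  set a := m ^ r * c with ha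
  set u := e⁻¹ * a e with hu
  have hmk : (QuotientGroup.mk (a e) : E ⧸ Zs h) = QuotientGroup.mk e := by
    have h1 : (QuotientGroup.mk (e * (a e)⁻¹) : E ⧸ Zs h) = 1 := (QuotientGroup.eq_one_iff _).2 he
    rw [QuotientGroup.mk_mul, QuotientGroup.mk_inv, mul_inv_eq_one] at h1
    exact h1.symm
  have huZ : u ∈ Zs h := QuotientGroup.eq.1 hmk.symm
  have hae : a e = e * u := (mul_inv_cancel_left _ _).symm
  have key : ∀ n : ℕ, (a ^ n) e = e * u ^ n := by
    intro n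
    induction n with
    | zero => simp
    | succ n ih =>
      rw [pow_succ', MulAut.mul_apply, ih, map_mul, map_pow, aut_mem_Zs h huZ, hae, pow_succ',
        mul_assoc]
  have han : a ^ 2 ^ k = m ^ (r * 2 ^ k) := by
    rw [ha, (Commute.pow_left (show Commute m c from hc) r).mul_pow, hck, mul_one, ← pow_mul]
  have hg : (m ^ (r * 2 ^ k)) e = e := by
    refine fixed_of_quot h (hodd.of_dvd_nat (orderOf_dvd_of_pow_eq_one (by
      rw [← pow_mul, mul_comm, pow_mul, hm, one_pow]))) ?_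
    rw [← han, key]
    exact QuotientGroup.mk_mul_of_mem e ((Zs h).pow_mem huZ _)
  refine hfix fun b hb => ?_
  obtain ⟨i, rfl⟩ := Subgroup.mem_zpowers_iff.1 hb
  have hcop : Nat.Coprime (r * 2 ^ k) q := by
    refine ((hq.out.coprime_iff_not_dvd).2 fun hd => ?_).symm
    rcases hq.out.dvd_mul.1 hd with hd | hd
    · exact hr hd
    · have h2 := (Nat.prime_dvd_prime_iff_eq hq.out Nat.prime_two).1 (hq.out.dvd_of_dvd_pow hd)
      rw [h2] at hodd
      exact absurd hodd (by decide)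
  have hb1 : Subgroup.zpowers (m ^ (r * 2 ^ k)) ≤ MulAction.stabilizer (MulAut E) e :=
    Subgroup.zpowers_le.2 hg
  obtain ⟨l, hl⟩ := exists_pow_eq_self_of_coprime (hcop.coprime_dvd_right
    (orderOf_dvd_of_pow_eq_one hm))
  have hmem : m ∈ Subgroup.zpowers (m ^ (r * 2 ^ k)) := ⟨(l : ℤ), by simpa using hl⟩
  exact hb1 (Subgroup.zpow_mem _ hmem i)

include h hR in
/-- The normalized intertwiners on a centralizer of `m`. -/
theorem exists_normalized (hodd : Odd q) (hm : m ^ q = 1) (hfix : fix (Subgroup.zpowers m) ≤ Zs h)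
    (C : Subgroup (MulAut E)) (hC : ∀ c ∈ C, m * c = c * m) (hC2 : IsPGroup 2 C) :
    ∃ (S : (Matrix ι ι ℂ)ˣ) (Y : C →* (Matrix ι ι ℂ)ˣ),
      Tw R m S ∧ trace (S : Matrix ι ι ℂ) ≠ 0 ∧ (∀ c : C, Tw R (c : MulAut E) (Y c : Matrix ι ι ℂ)) ∧
      (∀ (c : C) (r : ℕ), ¬ q ∣ r →
        trace ((S : Matrix ι ι ℂ) ^ r * (Y c : Matrix ι ι ℂ)) = trace ((S : Matrix ι ι ℂ) ^ r)) ∧
      ∀ (c : C) (W : (Matrix ι ι ℂ)ˣ), Tw R c W →
        trace ((S : Matrix ι ι ℂ) * (W : Matrix ι ι ℂ)) = trace (S : Matrix ι ι ℂ) → W = Y c := by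
  classical
  have : Finite (MulAut E) := Finite.of_injective _ DFunLike.coe_injective
  have hd : 0 < Fintype.card ι := hR.card_pos
  have hne : Nonempty ι := Fintype.card_pos_iff.1 hd
  obtain ⟨A, hA⟩ := hR.exists_tw h m
  have hAq : Tw R 1 ((A ^ q : (Matrix ι ι ℂ)ˣ) : Matrix ι ι ℂ) := by
    rw [← hm, Units.val_pow_eq_pow_val]
    exact hA.pow q
  obtain ⟨c₀, hc₀⟩ := exists_scal h hR (A := 1) (Tw.one (R := R)) hAq
  obtain ⟨w, hw⟩ := exists_root hq.out.pos c₀⁻¹
  set S := scal w A with hSdef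
  have hSt : Tw R m S := hA.scal w
  have hSq : (S : Matrix ι ι ℂ) ^ q = 1 := by
    rw [hSdef, coe_scal, smul_pow, ← Units.val_pow_eq_pow_val A, hc₀, coe_scal, smul_smul,
      ← Units.val_pow_eq_pow_val w, hw, Units.inv_mul, one_smul, Units.val_one]
  have hm1 : ∀ e, e * (m e)⁻¹ ∈ Zs h → e ∈ Zs h := fun e he => by
    refine fpf_mul h hodd hm hfix (c := 1) (by simp) (k := 0) (by simp) (r := 1)
      hq.out.not_dvd_one e ?_
    simpa using he
  have hS0 : trace (S : Matrix ι ι ℂ) ≠ 0 := trace_ne_zero h hR hSt hm1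
  clear_value S
  let Cov : Subgroup (C × (Matrix ι ι ℂ)ˣ) :=
    { carrier := {x | Tw R x.1 x.2 ∧ Matrix.det (x.2 : Matrix ι ι ℂ) = 1}
      one_mem' := ⟨Tw.one, by simp⟩
      mul_mem' := fun {a b} ha hb => ⟨ha.1.mul hb.1, by
        show Matrix.det ((a.2 : Matrix ι ι ℂ) * (b.2 : Matrix ι ι ℂ)) = 1
        rw [Matrix.det_mul, ha.2, hb.2, mul_one]⟩
      inv_mem' := fun {a} ha => ⟨ha.1.inv, by
        show Matrix.det ((a.2⁻¹ : (Matrix ι ι ℂ)ˣ) : Matrix ι ι ℂ) = 1
        have h1 : Matrix.det ((a.2⁻¹ : (Matrix ι ι ℂ)ˣ) : Matrix ι ι ℂ) *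
            Matrix.det (a.2 : Matrix ι ι ℂ) = 1 := by
          rw [← Matrix.det_mul, Units.inv_mul, Matrix.det_one]
        rwa [ha.2, mul_one] at h1⟩ }
  have hlift : ∀ c : C, ∃ x : Cov, x.1.1 = c := fun c => by
    obtain ⟨B, hB⟩ := hR.exists_tw h (c : MulAut E)
    have hdet : Matrix.det (B : Matrix ι ι ℂ) ≠ 0 :=
      (B.isUnit.map (Matrix.detMonoidHom : Matrix ι ι ℂ →* ℂ)).ne_zero
    obtain ⟨u, hu⟩ := exists_root hd (Units.mk0 _ hdet)⁻¹
    refine ⟨⟨(c, scal u B), hB.scal u, ?_⟩, rfl⟩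
    rw [coe_scal, Matrix.det_smul, ← Units.val_pow_eq_pow_val, hu, Units.val_inv_eq_inv_val,
      Units.val_mk0, inv_mul_cancel₀ hdet]
  choose sec hsec using hlift
  have : Finite Cov := by
    have hroots : Finite {u : ℂˣ // u ^ Fintype.card ι = 1} := by
      refine Finite.of_injective (fun u => (⟨(u.1 : ℂ), ?_⟩ :
        {x : ℂ // x ∈ (Polynomial.nthRoots (Fintype.card ι) (1 : ℂ)).toFinset})) fun a b hab =>
          Subtype.ext (Units.ext (congrArg Subtype.val hab))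
      rw [Multiset.mem_toFinset, Polynomial.mem_nthRoots hd, ← Units.val_pow_eq_pow_val, u.2,
        Units.val_one]
    have hv : ∀ x : Cov, ∃ u : {u : ℂˣ // u ^ Fintype.card ι = 1},
        x.1.2 = scal u (sec x.1.1).1.2 := fun x => by
      obtain ⟨u, hu⟩ := exists_scal h hR (a := (x.1.1 : MulAut E))
        (by have h1 := (sec x.1.1).2.1; rwa [hsec] at h1) x.2.1
      refine ⟨⟨u, Units.ext ?_⟩, hu⟩
      have h1 := x.2.2
      rw [hu, coe_scal, Matrix.det_smul, (sec x.1.1).2.2, mul_one] at h1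
      rw [Units.val_pow_eq_pow_val, Units.val_one]
      exact h1
    choose v hv using hv
    refine Finite.of_injective (fun x : Cov => (x.1.1, v x)) fun a b hab => ?_
    simp only [Prod.mk.injEq] at hab
    exact Subtype.ext (Prod.ext hab.1 (by rw [hv a, hv b, hab.1, hab.2]))
  let π : Cov →* Matrix ι ι ℂ :=
    (Units.coeHom _).comp ((MonoidHom.snd C (Matrix ι ι ℂ)ˣ).comp Cov.subtype)
  have hcomm : ∀ X, (S : Matrix ι ι ℂ) * π X = π X * S := fun X => by
    have h1 : Tw R m ((X.1.2 * S * X.1.2⁻¹ : (Matrix ι ι ℂ)ˣ) : Matrix ι ι ℂ) := by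
      have h2 := (X.2.1.mul hSt).mul X.2.1.inv
      rw [← hC _ X.1.1.2, mul_inv_cancel_right] at h2
      exact h2
    obtain ⟨μ, hμ⟩ := exists_scal h hR hSt h1
    have h3 := congrArg (fun U : (Matrix ι ι ℂ)ˣ => trace (U : Matrix ι ι ℂ)) hμ
    simp only [Units.val_mul, coe_scal, trace_smul, smul_eq_mul] at h3
    rw [trace_mul_comm, ← mul_assoc, Units.inv_mul, one_mul] at h3
    have hμ1 : (μ : ℂ) = 1 := (mul_eq_right₀ hS0).1 h3.symm
    have h4 : X.1.2 * S * X.1.2⁻¹ = S := Units.ext (by rw [hμ, coe_scal, hμ1, one_smul])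
    exact congrArg Units.val (mul_inv_eq_iff_eq_mul.1 h4).symm
  have hone : ∀ r : ZMod q, r ≠ 0 → ∀ X,
      tr π (S : Matrix ι ι ℂ) r X * conj (tr π (S : Matrix ι ι ℂ) r X) = 1 := by
    intro r hr X
    set F := pairHom π hSq hcomm with hF
    set x : Multiplicative (ZMod q) × Cov := (Multiplicative.ofAdd r, X) with hx
    have hconj := CfsgLib.Char.char_inv_eq_conj (toRep F) x
    rw [toRep_character, toRep_character] at hconj
    have htr : tr π (S : Matrix ι ι ℂ) r X = trace (F x) := rfl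
    rw [htr, ← hconj]
    obtain ⟨k, hk⟩ := hC2 X.1.1
    have h1 : Tw R (m ^ r.val * (X.1.1 : MulAut E)) (F x) := (hSt.pow r.val).mul X.2.1
    have h2 := hR.trace_mul_trace_inv h (A := F.toHomUnits x) h1 fun e he =>
      fpf_mul h hodd hm hfix (hC _ X.1.1.2) (k := k) (by
        rw [← SubgroupClass.coe_pow, hk, OneMemClass.coe_one]) (fun hd' => hr (by
        rw [← ZMod.natCast_zmod_val r, (ZMod.natCast_eq_zero_iff _ _).2 hd'])) e he
    rw [← map_inv] at h2
    exact h2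
  obtain ⟨lam, hlam⟩ := exists_linear π hSq hcomm hone
  have hlam' : ∀ (X : Cov) (r : ℕ), ¬ q ∣ r → trace ((S : Matrix ι ι ℂ) ^ r * π X) =
      trace ((S : Matrix ι ι ℂ) ^ r) * lam X := by
    intro X r hr
    have h1 := hlam (r : ZMod q) (fun h0 => hr ((ZMod.natCast_eq_zero_iff _ _).1 h0)) X
    simp only [tr, ZMod.val_natCast, ← pow_eq_pow_mod _ hSq, map_one, mul_one] at h1
    exact h1
  let Y : C → (Matrix ι ι ℂ)ˣ := fun c => scal (lam (sec c))⁻¹ (sec c).1.2
  have hY : ∀ c : C, Tw R (c : MulAut E) (Y c : Matrix ι ι ℂ) := fun c => by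
    have h1 := (sec c).2.1
    rw [hsec] at h1
    exact h1.scal _
  have hYtr : ∀ (c : C) (r : ℕ), ¬ q ∣ r →
      trace ((S : Matrix ι ι ℂ) ^ r * (Y c : Matrix ι ι ℂ)) = trace ((S : Matrix ι ι ℂ) ^ r) := by
    intro c r hr
    show trace ((S : Matrix ι ι ℂ) ^ r * (scal _ _ : (Matrix ι ι ℂ)ˣ).val) = _
    rw [coe_scal, mul_smul_comm, trace_smul, smul_eq_mul,
      show ((sec c).1.2 : Matrix ι ι ℂ) = π (sec c) from rfl, hlam' _ r hr, mul_left_comm,
      Units.inv_mul, mul_one]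
  have huniq : ∀ (c : C) (W : (Matrix ι ι ℂ)ˣ), Tw R c W →
      trace ((S : Matrix ι ι ℂ) * (W : Matrix ι ι ℂ)) = trace (S : Matrix ι ι ℂ) → W = Y c := by
    intro c W hW htr
    obtain ⟨μ, rfl⟩ := exists_scal h hR (hY c) hW
    rw [coe_scal, mul_smul_comm, trace_smul, smul_eq_mul] at htr
    have h1 := hYtr c 1 hq.out.not_dvd_one
    rw [pow_one] at h1
    rw [h1] at htr
    exact Units.ext (by rw [coe_scal, (mul_eq_right₀ hS0).1 htr, one_smul])
  refine ⟨S, MonoidHom.mk' Y fun a b => (huniq (a * b) _ ((hY a).mul (hY b)) ?_).symm,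
    hSt, hS0, hY, hYtr, huniq⟩
  have h1 := hlam' (sec a * sec b) 1 hq.out.not_dvd_one
  rw [pow_one, map_mul π] at h1
  show trace ((S : Matrix ι ι ℂ) * (((scal _ _ : (Matrix ι ι ℂ)ˣ) * scal _ _ : (Matrix ι ι ℂ)ˣ) : Matrix ι ι ℂ)) = _
  rw [Units.val_mul, coe_scal, coe_scal, smul_mul_smul_comm, mul_smul_comm, trace_smul,
    smul_eq_mul, show ((sec a).1.2 : Matrix ι ι ℂ) * (sec b).1.2 = π (sec a) * π (sec b) from rfl,
    h1, map_mul lam, Units.val_mul, Units.val_inv_eq_inv_val, Units.val_inv_eq_inv_val]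
  field_simp [(lam (sec a)).ne_zero, (lam (sec b)).ne_zero]

include h hR in
/-- A 2-group normalizing a fixed-point-free element of prime order is realized. -/
theorem exists_pair_cyclic (hodd : Odd q) (hm : m ^ q = 1) (hm1 : m ≠ 1)
    (hfix : fix (Subgroup.zpowers m) ≤ Zs h) (T : Subgroup (MulAut E)) (hT2 : IsPGroup 2 T)
    (hnorm : ∀ t ∈ T, t * m * t⁻¹ ∈ Subgroup.zpowers m) :
    ∃ τ : T →* Matrix ι ι ℂ, ∀ t : T, Tw R t (τ t) := by
  classical
  have : Finite (MulAut E) := Finite.of_injective _ DFunLike.coe_injective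
  set C : Subgroup (MulAut E) := T ⊓ Subgroup.centralizer {m} with hCdef
  have hC : ∀ c ∈ C, m * c = c * m := fun c hc => Subgroup.mem_centralizer_iff.1 hc.2 m rfl
  obtain ⟨S, Y, hSt, hS0, hY, hYtr, huniq⟩ := exists_normalized h hR hodd hm hfix C hC
    (hT2.to_le inf_le_left)
  set N := Subgroup.zpowers m with hN
  have hNcard : Nat.card N = q := by rw [Nat.card_zpowers, orderOf_eq_prime hm hm1]
  haveI : Fact (Nat.card N).Prime := ⟨hNcard ▸ hq.out⟩
  haveI : IsCyclic N := isCyclic_of_prime_card rfl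
  haveI : IsCyclic (ZMod (Nat.card N))ˣ := ZMod.isCyclic_units_prime Fact.out
  have hle : T ≤ Subgroup.normalizer (N : Set (MulAut E)) := fun t ht => by
    refine Subgroup.mem_normalizer_iff.2 ?_
    have hmap : ∀ s ∈ T, ∀ n ∈ N, s * n * s⁻¹ ∈ N := fun s hs n hn => by
      obtain ⟨i, rfl⟩ := Subgroup.mem_zpowers_iff.1 hn
      rw [← conj_zpow]
      exact N.zpow_mem (hnorm s hs) i
    refine fun n => ⟨hmap t ht n, fun hn => ?_⟩
    have h1 := hmap t⁻¹ (inv_mem ht) _ hn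
    simpa [mul_assoc] using h1
  let conjT : T →* MulAut N :=
    { toFun := fun t =>
        { toFun := fun n => ⟨t * n * (t : MulAut E)⁻¹, (Subgroup.mem_normalizer_iff.1 (hle t.2) n).1 n.2⟩
          invFun := fun n => ⟨(t : MulAut E)⁻¹ * n * t,
            (Subgroup.mem_normalizer_iff.1 (hle t.2) _).2 (by simp [mul_assoc])⟩
          left_inv := fun n => Subtype.ext (by simp [mul_assoc])
          right_inv := fun n => Subtype.ext (by simp [mul_assoc])
          map_mul' := fun a b => Subtype.ext (by simp [mul_assoc]) }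
      map_one' := by ext n; simp
      map_mul' := fun a b => by ext n; simp [mul_assoc] }
  have hker : ∀ t : T, conjT t = 1 ↔ (t : MulAut E) ∈ C := by
    intro t
    constructor
    · intro ht
      refine ⟨t.2, Subgroup.mem_centralizer_singleton_iff.2 ?_⟩
      have h1 := congrArg (fun f : MulAut N => (f ⟨m, Subgroup.mem_zpowers m⟩ : MulAut E)) ht
      simp [conjT] at h1
      exact mul_inv_eq_iff_eq_mul.1 h1
    · intro ht
      refine MulEquiv.ext fun n => Subtype.ext ?_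
      show (t : MulAut E) * n * (t : MulAut E)⁻¹ = n
      obtain ⟨i, hi⟩ := Subgroup.mem_zpowers_iff.1 n.2
      rw [← hi, (Commute.zpow_right (show Commute (t : MulAut E) m from
        (hC _ ht).symm) i).eq, mul_inv_cancel_right]
  haveI : IsCyclic (MulAut N) := (IsCyclic.mulAutMulEquiv N).isCyclic.2 inferInstance
  obtain ⟨g, hg⟩ := IsCyclic.exists_generator (α := conjT.range)
  obtain ⟨t₀, ht₀⟩ := g.2
  have hdec : ∀ t : T, ∃ i : ℤ, (t : MulAut E) * ((t₀ : MulAut E) ^ i)⁻¹ ∈ C := by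
    intro t
    obtain ⟨i, hi⟩ := Subgroup.mem_zpowers_iff.1 (hg ⟨conjT t, ⟨t, rfl⟩⟩)
    refine ⟨i, ?_⟩
    rw [← Subgroup.coe_zpow, ← Subgroup.coe_inv, ← Subgroup.coe_mul, ← hker, map_mul, map_inv,
      map_zpow, ht₀, mul_inv_eq_one]
    exact (congrArg Subtype.val hi).symm
  set k := orderOf (conjT t₀) with hk
  have hkpos : 0 < k := orderOf_pos _
  have htk : (t₀ : MulAut E) ^ k ∈ C := by
    rw [← SubgroupClass.coe_pow, ← hker, map_pow, pow_orderOf_eq_one]
  obtain ⟨B₀, hB₀⟩ := hR.exists_tw h (t₀ : MulAut E)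
  obtain ⟨μ, hμ⟩ := exists_scal h hR (A := B₀ ^ k)
    (by rw [Units.val_pow_eq_pow_val]; exact hB₀.pow k) (hY ⟨_, htk⟩)
  obtain ⟨w, hw⟩ := exists_root hkpos μ
  set B := scal w B₀ with hBdef
  have hB : Tw R t₀ B := hB₀.scal w
  have hBk : B ^ k = Y ⟨_, htk⟩ := by
    rw [hμ]
    apply Units.ext
    rw [Units.val_pow_eq_pow_val, hBdef, coe_scal, smul_pow, coe_scal,
      ← Units.val_pow_eq_pow_val w, hw, Units.val_pow_eq_pow_val]
  have hequiv : ∀ (t : T) (W : (Matrix ι ι ℂ)ˣ), Tw R t W → ∀ (c : C)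
      (hc : (t : MulAut E) * c * (t : MulAut E)⁻¹ ∈ C), W * Y c * W⁻¹ = Y ⟨_, hc⟩ := by
    intro t W hW c hc
    refine huniq _ _ ((hW.mul (hY c)).mul hW.inv) ?_
    have h1 := hnorm _ (inv_mem t.2)
    rw [inv_inv] at h1
    obtain ⟨r, hr⟩ : ∃ r : ℕ, m ^ r = (t : MulAut E)⁻¹ * m * t := by
      rw [← (isOfFinOrder_of_finite m).mem_powers_iff_mem_zpowers] at h1
      exact h1
    have hrq : ¬ q ∣ r := by
      rintro ⟨s, rfl⟩
      rw [pow_mul, hm, one_pow] at hr
      apply hm1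
      calc m = (t : MulAut E) * ((t : MulAut E)⁻¹ * m * t) * (t : MulAut E)⁻¹ := by group
        _ = 1 := by rw [← hr, mul_one, mul_inv_cancel]
    obtain ⟨ν, hν⟩ := exists_scal h hR (A := S ^ r) (a := m ^ r)
      (by rw [Units.val_pow_eq_pow_val]; exact hSt.pow r) (B := W⁻¹ * S * W)
      (by rw [hr]; exact (hW.inv.mul hSt).mul hW)
    have hν' := congrArg Units.val hν
    simp only [Units.val_mul, coe_scal, Units.val_pow_eq_pow_val] at hν'
    have h2 : trace (S : Matrix ι ι ℂ) = (ν : ℂ) * trace ((S : Matrix ι ι ℂ) ^ r) := by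
      rw [← smul_eq_mul, ← trace_smul, ← hν', trace_mul_comm, ← mul_assoc, Units.mul_inv, one_mul]
    rw [h2, ← hYtr c r hrq, ← smul_eq_mul (ν : ℂ), ← trace_smul, ← smul_mul_assoc, ← hν', Units.val_mul,
      Units.val_mul, ← mul_assoc, ← mul_assoc, trace_mul_comm, ← mul_assoc, ← mul_assoc]
  have hCn : ∀ (t : T) (c : C), (t : MulAut E) * c * (t : MulAut E)⁻¹ ∈ C := by
    intro t c
    have hcT : (c : MulAut E) ∈ T := c.2.1
    have h1 := (hker (t * ⟨c, hcT⟩ * t⁻¹)).1 (by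
      rw [map_mul, map_mul, (hker ⟨c, hcT⟩).2 c.2, mul_one, map_inv, mul_inv_cancel])
    exact h1
  choose idx hidx using hdec
  let τ : T → (Matrix ι ι ℂ)ˣ := fun t => Y ⟨_, hidx t⟩ * B ^ idx t
  have hτ : ∀ (t : T) (c : C) (i : ℤ), (t : MulAut E) = c * (t₀ : MulAut E) ^ i →
      τ t = Y c * B ^ i := by
    intro t c i ht
    set j := idx t
    have hk1 : (conjT t₀) ^ (i - j) = 1 := by
      rw [← map_zpow, hker, Subgroup.coe_zpow]
      have : (t₀ : MulAut E) ^ (i - j) = (c : MulAut E)⁻¹ * ((t : MulAut E) *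
          ((t₀ : MulAut E) ^ j)⁻¹) := by rw [ht, _root_.zpow_sub]; group
      rw [this]
      exact mul_mem (inv_mem c.2) (hidx t)
    obtain ⟨l, hl⟩ := orderOf_dvd_iff_zpow_eq_one.2 hk1
    have hij : i = k * l + j := by rw [hk]; omega
    have hc' : (⟨_, hidx t⟩ : C) = c * (⟨_, htk⟩ : C) ^ l := Subtype.ext (by
      show (t : MulAut E) * ((t₀ : MulAut E) ^ j)⁻¹ = c * ((⟨_, htk⟩ : C) ^ l : C)
      rw [Subgroup.coe_zpow, ht, hij, _root_.zpow_add, _root_.zpow_mul, zpow_natCast]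
      group)
    show Y ⟨_, hidx t⟩ * B ^ j = _
    rw [hc', map_mul, map_zpow, ← hBk, hij, _root_.zpow_add, _root_.zpow_mul, zpow_natCast, mul_assoc]
  refine ⟨(Units.coeHom _).comp (MonoidHom.mk' τ fun a b => ?_), fun t => ?_⟩
  · set ca : C := ⟨_, hidx a⟩
    set cb : C := ⟨_, hidx b⟩
    set s : T := t₀ ^ idx a with hs
    rw [hτ (a * b) (ca * ⟨_, hCn s cb⟩) (idx a + idx b) (by
      simp only [Subgroup.coe_mul, Subgroup.coe_zpow, ca, cb, hs, _root_.zpow_add]
      group), map_mul, ← hequiv s (B ^ idx a) (by rw [hs, Subgroup.coe_zpow]; exact hB.zpow _) cb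
        (hCn s cb), _root_.zpow_add]
    show _ = Y ca * B ^ idx a * (Y cb * B ^ idx b)
    group
  · have h1 := (hY ⟨_, hidx t⟩).mul (hB.zpow (idx t))
    rw [inv_mul_cancel_right] at h1
    exact h1

end CfsgLib.CharDeep.ExtraExtend
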