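import Cfsg.Agent.Lib.CharDeep.ExtraExtend.Main
import Cfsg.Agent.Lib.CharDeep.DetExt
import Cfsg.Prelude.Def_Transfer

/-!
# Extension of the faithful character of an extraspecial 2-group to a split extension
-/

namespace CfsgLib.CharDeep.ExtraExtend

open Matrix Subgroup
open scoped Pointwise

/-- An extraspecial 2-group has the required shape. -/
theorem exists_sp {E : Type*} [Group E] [Finite E] (hE : Cfsg.IsExtraspecial 2 E) :
    ∃ z : E, Sp z := by
  obtain ⟨⟨-, -, hcomm⟩, hcard⟩ := hE
  obtain ⟨x, y, hxy, hset⟩ := (Nat.card_eq_two_iff (α := Subgroup.center E)).1 hcard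
  have hz : ∃ z : Subgroup.center E, z ≠ 1 := by
    by_cases h : x = 1
    · exact ⟨y, fun hy => hxy (h.trans hy.symm)⟩
    · exact ⟨x, h⟩
  obtain ⟨z, hz⟩ := hz
  have hmem : ∀ w ∈ Subgroup.center E, w = 1 ∨ w = (z : E) := by
    intro w hw
    by_contra hc
    push Not at hc
    have h3 : 3 ≤ Nat.card (Subgroup.center E) := by
      classical
      haveI : Fintype (Subgroup.center E) := Fintype.ofFinite _
      rw [Nat.card_eq_fintype_card]
      refine le_trans (le_of_eq ?_) (Finset.card_le_univ ({1, z, ⟨w, hw⟩} : Finset _))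
      refine (Finset.card_eq_three.2 ⟨1, z, ⟨w, hw⟩, Ne.symm hz, fun he => hc.1 ?_,
        fun he => hc.2 ?_, rfl⟩).symm
      · exact (congrArg Subtype.val he).symm
      · exact (congrArg Subtype.val he).symm
    omega
  have hzc : ∀ w : E, (z : E) * w = w * z := fun w => (Subgroup.mem_center_iff.1 z.2 w).symm
  have hz1 : (z : E) ≠ 1 := fun he => hz (Subtype.ext he)
  have hzz : (z : E) * z = 1 := by
    refine ((hmem _ (mul_mem z.2 z.2))).resolve_right fun he => hz1 ?_
    exact mul_eq_left.1 he
  have hc : ∀ a b : E, a * b = b * a ∨ a * b = b * a * z := by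
    intro a b
    have h1 : a * b * a⁻¹ * b⁻¹ ∈ Subgroup.center E := hcomm ▸
      Subgroup.commutator_mem_commutator (Subgroup.mem_top a) (Subgroup.mem_top b)
    rcases hmem _ h1 with h2 | h2
    · exact Or.inl (by rw [← mul_inv_eq_one, _root_.mul_inv_rev, ← mul_assoc]; exact h2)
    · refine Or.inr ?_
      rw [← hzc, ← mul_inv_eq_iff_eq_mul, _root_.mul_inv_rev, ← mul_assoc]
      exact h2
  refine ⟨z, hz1, hzz, hzc, hc, fun a => hmem _ (Subgroup.mem_center_iff.2 fun b => ?_),
    fun a ha => hmem a (Subgroup.mem_center_iff.2 fun b => (ha b).symm)⟩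
  rcases hc a b with h1 | h1
  · rw [mul_assoc a a b, h1, ← mul_assoc, ← mul_assoc, h1, mul_assoc]
  · calc b * (a * a) = b * (a * a) * (z * z) := by rw [hzz, mul_one]
      _ = b * a * (z * (a * z)) := by
          rw [mul_assoc b (a * a), mul_assoc b a, mul_assoc a a]
          congr 2
          rw [← mul_assoc (z : E) a z, hzc a, mul_assoc]
      _ = a * b * a * z := by rw [h1]; simp only [mul_assoc]
      _ = a * (b * a * z) := by simp only [mul_assoc]
      _ = a * a * b := by rw [← h1, mul_assoc]

theorem extends_to_split {G : Type*} [Group G] [Finite G] (E H : Subgroup G) [E.Normal]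
    (hE : Cfsg.IsExtraspecial 2 ↥E) (hEH : E ⊓ H = ⊥) (hEHtop : E ⊔ H = ⊤) (K : Subgroup G)
    (hKH : K ≤ H) (hKn : ∀ h ∈ H, ∀ k ∈ K, h * k * h⁻¹ ∈ K) (hKodd : Odd (Nat.card K))
    (hEK : ⁅E, K⁆ = E) (θ : Cfsg.IrrCharacter ↥E)
    (hθ : ∀ e : ↥E, (θ : ↥E → ℂ) e = (θ : ↥E → ℂ) 1 → e = 1) :
    ∃ χ : Cfsg.IrrCharacter G, ∀ e : ↥E, (χ : G → ℂ) e = (θ : ↥E → ℂ) e := by
  classical
  obtain ⟨z, h⟩ := exists_sp hE
  obtain ⟨n, ρ, hρ, hρθ⟩ := θ.2
  haveI := hρ
  -- the matrix representation
  set R : E →* Matrix (Fin n) (Fin n) ℂ :=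
    (Matrix.toLinAlgEquiv' : Matrix (Fin n) (Fin n) ℂ ≃ₐ[ℂ] _).symm.toMonoidHom.comp ρ with hRdef
  have hRρ : toRep R = ρ := MonoidHom.ext fun g =>
    (Matrix.toLinAlgEquiv' : Matrix (Fin n) (Fin n) ℂ ≃ₐ[ℂ] _).apply_symm_apply (ρ g)
  obtain ⟨c, hc⟩ := IrrTools.exists_smul_of_commute ρ (ρ z) fun g => by
    rw [← map_mul, ← map_mul, h.central]
  have hR : GR z R := by
    haveI : (toRep R).IsIrreducible := hRρ ▸ hρ
    have : Nontrivial (Fin n → ℂ) := IrrTools.apply_ne_zero_of_isIrreducible ρ
    refine gr_of_irreducible h R ?_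
    have h1 : ρ z * ρ z = 1 := by rw [← map_mul, h.mul_self, map_one]
    rw [hc, smul_mul_smul_comm, one_mul] at h1
    obtain ⟨v, hv⟩ := exists_ne (0 : Fin n → ℂ)
    have h2 := LinearMap.congr_fun h1 v
    simp only [LinearMap.smul_apply, Module.End.one_apply] at h2
    have h3 : c * c = 1 := by
      have h4 : (c * c - 1) • v = 0 := by rw [sub_smul, h2, one_smul, sub_self]
      exact sub_eq_zero.1 ((smul_eq_zero.1 h4).resolve_right hv)
    rcases mul_self_eq_one_iff.1 h3 with hc1 | hc1
    · refine absurd (hθ z ?_) h.ne_one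
      rw [← hρθ]
      show LinearMap.trace ℂ _ (ρ z) = LinearMap.trace ℂ _ (ρ 1)
      rw [map_one ρ, hc, hc1, one_smul]
    · show (Matrix.toLinAlgEquiv' : Matrix (Fin n) (Fin n) ℂ ≃ₐ[ℂ] _).symm (ρ z) = -1
      rw [hc, hc1, map_smul, map_one]
      simp
  have hval : ∀ e : E, ρ.character e = trace (R e) := fun e => by rw [← toRep_character, hRρ]
  have haut : ∀ (a : MulAut E) (e : E), trace (R (a e)) = trace (R e) := fun a e => by
    rw [hR.trace_mul_eq h, hR.trace_mul_eq h]
    simp only [show (a e = 1) = (e = 1) from propext (by simp),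
      show (a e = z) = (e = z) from propext ⟨fun hx => a.injective (by rw [hx, aut_z h]),
        fun hx => by rw [hx, aut_z h]⟩]
    congr
  have hinv : ProjExt.Invariant ρ := fun g e => by rw [hval, hval, haut]
  -- the projection to the complement
  set φ : H →* G ⧸ E := (QuotientGroup.mk' E).comp H.subtype with hφ
  have hbij : Function.Bijective φ := by
    refine ⟨(injective_iff_map_eq_one φ).2 fun x hx => ?_, fun q => ?_⟩
    · have h1 : (x : G) ∈ E ⊓ H := ⟨(QuotientGroup.eq_one_iff _).1 hx, x.2⟩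
      rw [hEH, Subgroup.mem_bot] at h1
      exact Subtype.ext h1
    · obtain ⟨g, rfl⟩ := QuotientGroup.mk'_surjective E q
      have hg : g ∈ (E : Set G) * (H : Set G) := by
        rw [← Subgroup.normal_mul, hEHtop]
        trivial
      obtain ⟨a, ha, b, hb, rfl⟩ := hg
      refine ⟨⟨b, hb⟩, ?_⟩
      show QuotientGroup.mk' E b = QuotientGroup.mk' E (a * b)
      rw [map_mul, show QuotientGroup.mk' E a = 1 from (QuotientGroup.eq_one_iff a).2 ha, one_mul]
  let eφ : H ≃* G ⧸ E := MulEquiv.ofBijective φ hbij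
  let pr : G →* H := eφ.symm.toMonoidHom.comp (QuotientGroup.mk' E)
  have hpr : ∀ g : G, g * (pr g : G)⁻¹ ∈ E := fun g => by
    rw [← QuotientGroup.eq_one_iff (N := E), QuotientGroup.mk_mul, QuotientGroup.mk_inv,
      mul_inv_eq_one]
    exact (eφ.apply_symm_apply (QuotientGroup.mk' E g)).symm
  -- fixed points of `K`
  let cj : G →* MulAut E := MulAut.conjNormal
  have hfix : fix (K.map cj) ≤ Zs h := by
    intro x hx
    refine center_mem h fun y => ?_
    have hle : ⁅K, E⁆ ≤ (Subgroup.centralizer ({x} : Set E)).map E.subtype := by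
      rw [Subgroup.commutator_le]
      intro k hk e he
      refine ⟨cj k ⟨e, he⟩ * (⟨e, he⟩ : E)⁻¹, Subgroup.mem_centralizer_iff.2 ?_, by
        simp [cj, commutatorElement_def, mul_assoc]⟩
      rintro _ rfl
      exact fix_commute (hx _ ⟨k, hk, rfl⟩) _ h
    rw [Subgroup.commutator_comm, hEK] at hle
    obtain ⟨w, hw, hwy⟩ := hle y.2
    rw [show y = w from Subtype.ext hwy.symm]
    exact Subgroup.mem_centralizer_iff.1 hw x rfl
  -- the determinant is trivial
  have hdet : ∀ e : E, DetExt.detHom ρ e = 1 := by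
    let δ : E →* ℂˣ := DetExt.detHom ρ
    have hδinv : ∀ (g : G) (e : E), δ (cj g e) = δ e := by
      intro g e
      obtain ⟨γ, hγ⟩ := ProjExt.proj_surjective ρ hinv g
      have h1 := congrArg LinearMap.det (ProjExt.lin_mul ρ γ e)
      rw [map_mul, map_mul, hγ, ProjExt.det_lin, one_mul, mul_one] at h1
      exact Units.ext h1.symm
    have hle : ⁅K, E⁆ ≤ δ.ker.map E.subtype := by
      rw [Subgroup.commutator_le]
      intro k hk e he
      refine ⟨cj k ⟨e, he⟩ * (⟨e, he⟩ : E)⁻¹, ?_, by simp [cj, commutatorElement_def, mul_assoc]⟩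
      show δ _ = 1
      rw [map_mul, map_inv, hδinv, mul_inv_cancel]
    rw [Subgroup.commutator_comm, hEK] at hle
    intro e
    obtain ⟨w, hw, hwe⟩ := hle e.2
    rw [show e = w from Subtype.ext hwe.symm]
    exact hw
  obtain ⟨σ, hσ⟩ := ProjExt.exists_extension_of_sylow ρ hinv fun p hp => by
    haveI := Fact.mk hp
    obtain ⟨S⟩ : Nonempty (Sylow p H) := inferInstance
    refine ⟨(S : Subgroup H).comap pr, fun e he => ?_, ?_⟩
    · show pr e ∈ (S : Subgroup H)
      have h1 : pr e = 1 := by
        show eφ.symm (QuotientGroup.mk' E e) = 1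
        rw [show QuotientGroup.mk' E e = 1 from (QuotientGroup.eq_one_iff e).2 he, map_one]
      rw [h1]
      exact one_mem _
    have hsurj : Function.Surjective pr :=
      eφ.symm.surjective.comp (QuotientGroup.mk'_surjective E)
    have hidx : ¬ p ∣ ((S : Subgroup H).comap pr).index := by
      rw [Subgroup.index_comap_of_surjective _ hsurj]
      exact S.not_dvd_index
    by_cases hp2 : p = 2
    · subst hp2
      let cS : S →* MulAut E := cj.comp (H.subtype.comp (S : Subgroup H).subtype)
      obtain ⟨ι, _, _, R', τ, hR', hτ⟩ := claim (Nat.card E) E z h cS.range (K.map cj) le_rfl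
        (S.isPGroup'.of_surjective _ cS.rangeRestrict_surjective)
        (hKodd.of_dvd_nat (Subgroup.card_map_dvd _ cj))
        (by
          rintro _ ⟨s, rfl⟩ _ ⟨k, hk, rfl⟩
          refine ⟨(((s : S) : H) : G) * k * (((s : S) : H) : G)⁻¹, hKn _ (s : H).2 k hk, ?_⟩
          rw [map_mul, map_mul, map_inv]
          rfl) hfix
      set X := (S : Subgroup H).comap pr with hX
      let τ' : X →* Matrix ι ι ℂ :=
        τ.comp (cS.rangeRestrict.comp ((pr.comp X.subtype).codRestrict (S : Subgroup H) fun x => x.2))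
      let ef : X → E := fun x => ⟨_, hpr x⟩
      have hef : ∀ a b : X, ef (a * b) = ef a * cj (pr a : G) (ef b) := fun a b =>
        Subtype.ext (by simp [ef, cj, mul_assoc, map_mul pr])
      let πM : X →* Matrix ι ι ℂ :=
        { toFun := fun x => R' (ef x) * τ' x
          map_one' := by
            rw [map_one τ', mul_one, show ef 1 = 1 from Subtype.ext (by simp [ef]), map_one]
          map_mul' := fun a b => by
            have h1 : τ' a * R' (ef b) = R' (cj (pr a : G) (ef b)) * τ' a := hτ _ _
            rw [hef, map_mul R', map_mul τ', mul_assoc, ← mul_assoc (R' (cj _ _)), ← h1]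
            simp only [mul_assoc] }
      refine ⟨Fintype.card ι, CfsgLib.Char.transport (toRep πM)
        (LinearEquiv.funCongrLeft ℂ ℂ (Fintype.equivFin ι).symm), hidx, fun e => ?_⟩
      rw [← Representation.char_iso (CfsgLib.Char.transportEquiv (toRep πM) _), toRep_character]
      show trace (R' (ef ⟨e, _⟩) * τ' ⟨e, _⟩) = _
      have h1 : pr (e : G) = 1 := by
        show eφ.symm (QuotientGroup.mk' E e) = 1
        rw [show QuotientGroup.mk' E (e : G) = 1 from (QuotientGroup.eq_one_iff _).2 e.2, map_one]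
      have h2 : τ' ⟨e, by show pr (e : G) ∈ (S : Subgroup H); rw [h1]; exact one_mem _⟩ = 1 := by
        refine (congrArg τ (Subtype.ext ?_)).trans (map_one τ)
        show cj (pr (e : G) : G) = 1
        rw [h1, OneMemClass.coe_one, map_one]
      rw [h2, mul_one, hval, show ef ⟨e, _⟩ = e from Subtype.ext (by simp [ef, h1]),
        hR.trace_mul_eq h, hR'.trace_mul_eq h,
        show Fintype.card ι = Fintype.card (Fin n) from Nat.pow_left_injective two_ne_zero
          (Nat.eq_of_mul_eq_mul_left two_pos (hR'.card.trans hR.card.symm))]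
    · set X := (S : Subgroup H).comap pr with hX
      have hEX : E ≤ X := fun e he => by
        show pr e ∈ (S : Subgroup H)
        have h1 : pr e = 1 := by
          show eφ.symm (QuotientGroup.mk' E e) = 1
          rw [show QuotientGroup.mk' E e = 1 from (QuotientGroup.eq_one_iff e).2 he, map_one]
        rw [h1]
        exact one_mem _
      let e' : E.subgroupOf X ≃* E := Subgroup.subgroupOfEquivOfLe hEX
      let ρ' : Representation ℂ (E.subgroupOf X) (Fin n → ℂ) := ρ.comp e'.toMonoidHom
      haveI : ρ'.IsIrreducible := by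
        have := IrrTools.apply_ne_zero_of_isIrreducible ρ
        exact IrrTools.isIrreducible_of_forall _ fun U hU =>
          IrrTools.eq_bot_or_top_of_invariant ρ U fun g u hu => by
            have h1 := hU (e'.symm g) u hu
            simpa [ρ'] using h1
      have hinv' : ProjExt.Invariant ρ' := fun g m => by
        show ρ.character (e' _) = ρ.character (e' m)
        rw [← hinv (g : G) (e' m)]
        exact congrArg _ (Subtype.ext rfl)
      have hindex : (E.subgroupOf X).index = Nat.card (S : Subgroup H) := by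
        have h1 : E = (⊥ : Subgroup H).comap pr := by
          ext g
          simp only [Subgroup.mem_comap, Subgroup.mem_bot, pr, MonoidHom.comp_apply,
            MulEquiv.coe_toMonoidHom, MulEquiv.map_eq_one_iff, QuotientGroup.mk'_apply,
            QuotientGroup.eq_one_iff]
        rw [show (E.subgroupOf X).index = E.relIndex X from rfl, h1, Subgroup.relIndex_comap,
          hX, Subgroup.map_comap_eq_self_of_surjective hsurj, Subgroup.relIndex_bot_left]
      have hcop : (E.subgroupOf X).index.Coprime (Module.finrank ℂ (Fin n → ℂ)) := by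
        rw [hindex, Module.finrank_fin_fun]
        obtain ⟨k, hk⟩ := S.isPGroup'.exists_card_eq
        obtain ⟨l, hl⟩ := (hE.1.1 : IsPGroup 2 E).exists_card_eq
        rw [hk]
        refine Nat.Coprime.pow_left k ((hp.coprime_iff_not_dvd).2 fun hd => hp2 ?_)
        have h4 : p ∣ 2 * Fintype.card (Fin n) ^ 2 := by
          rw [Fintype.card_fin]
          exact dvd_mul_of_dvd_right (dvd_pow hd two_ne_zero) _
        rw [hR.card, hl] at h4
        exact (Nat.prime_dvd_prime_iff_eq hp Nat.prime_two).1 (hp.dvd_of_dvd_pow h4)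
      obtain ⟨σ, hσ, -⟩ := DetExt.exists_extension_det ρ' hinv' hcop 1 fun m => by
        refine Units.ext ?_
        show (1 : ℂ) = _
        have h1 := congrArg Units.val (hdet (e' m))
        exact h1.symm
      refine ⟨n, σ, hidx, fun e => ?_⟩
      show LinearMap.trace ℂ _ (σ _) = _
      rw [show (⟨(e : G), hEX e.2⟩ : X) = ((⟨⟨e, hEX e.2⟩, e.2⟩ : E.subgroupOf X) : X) from rfl, hσ]
      rfl
  obtain ⟨χ, hχ, hχe⟩ := ProjExt.exists_character_of_extension ρ σ hσ
  exact ⟨⟨χ, hχ⟩, fun e => (hχe e).trans (congrFun hρθ e)⟩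

end CfsgLib.CharDeep.ExtraExtend
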