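import Cfsg.Agent.Lib.CharDeep.ExtraExtend.Mat
import Cfsg.Agent.Lib.PGroup.Frattini
import Mathlib.GroupTheory.NoncommCoprod
import Mathlib.LinearAlgebra.Matrix.Kronecker

/-!
# Central products and index two tensor induction

Realizations of a group of automorphisms on the factors of a central decomposition combine to a
realization on the whole group.
-/

namespace CfsgLib.CharDeep.ExtraExtend

open Matrix
open scoped Kronecker

/-- Some faithful irreducible representation is intertwined by a homomorphism on `T`. -/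
def Good {E : Type*} [Group E] (z : E) (T : Subgroup (MulAut E)) : Prop :=
  ∃ (ι : Type) (_ : Fintype ι) (_ : DecidableEq ι) (R : E →* Matrix ι ι ℂ) (τ : T →* Matrix ι ι ℂ),
    GR z R ∧ ∀ t : T, Tw R t (τ t)

variable {E : Type*} [Group E]

/-- The stabilizer of a subgroup. -/
def stab (F : Subgroup E) : Subgroup (MulAut E) where
  carrier := {a | ∀ x, a x ∈ F ↔ x ∈ F}
  one_mem' := fun x => Iff.rfl
  mul_mem' := fun {a b} ha hb x => (ha (b x)).trans (hb x)
  inv_mem' := fun {a} ha x => by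
    have h1 := ha (a⁻¹ x)
    rw [show a (a⁻¹ x) = x from a.apply_symm_apply x] at h1
    exact h1.symm

theorem mem_stab_of_map_le [Finite E] {F : Subgroup E} {a : MulAut E}
    (ha : ∀ x ∈ F, a x ∈ F) : a ∈ stab F := by
  intro x
  refine ⟨fun hx => ?_, ha x⟩
  have hsurj : Function.Surjective (fun u : F => (⟨a u, ha u u.2⟩ : F)) :=
    Finite.surjective_of_injective fun u v huv =>
      Subtype.ext (a.injective (congrArg Subtype.val huv))
  obtain ⟨u, hu⟩ := hsurj ⟨a x, hx⟩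
  rw [← a.injective (congrArg Subtype.val hu)]
  exact u.2

/-- Restriction to a stabilized subgroup. -/
def res (F : Subgroup E) : stab F →* MulAut F where
  toFun a :=
    { toFun := fun u => ⟨(a : MulAut E) u, (a.2 u).2 u.2⟩
      invFun := fun u => ⟨(a : MulAut E)⁻¹ u, ((stab F).inv_mem a.2 u).2 u.2⟩
      left_inv := fun u => Subtype.ext ((a : MulAut E).symm_apply_apply u)
      right_inv := fun u => Subtype.ext ((a : MulAut E).apply_symm_apply u)
      map_mul' := fun u v => Subtype.ext (map_mul (a : MulAut E) (u : E) (v : E)) }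
  map_one' := rfl
  map_mul' := fun a b => rfl

/-- The group of restrictions of `A` to `F`. -/
def restr (F : Subgroup E) (A : Subgroup (MulAut E)) : Subgroup (MulAut F) :=
  (A.subgroupOf (stab F)).map (res F)

theorem mem_restr {F : Subgroup E} {A : Subgroup (MulAut E)} {a : MulAut E} (ha : a ∈ A)
    (hs : a ∈ stab F) : res F ⟨a, hs⟩ ∈ restr F A :=
  ⟨⟨a, hs⟩, ha, rfl⟩

theorem isPGroup_restr {F : Subgroup E} {A : Subgroup (MulAut E)} {p : ℕ} (hA : IsPGroup p A) :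
    IsPGroup p (restr F A) :=
  (hA.comap_of_injective (stab F).subtype Subtype.val_injective).map (res F)

theorem odd_card_restr [Finite E] {F : Subgroup E} {A : Subgroup (MulAut E)}
    (hA : Odd (Nat.card A)) : Odd (Nat.card (restr F A)) := by
  have : Finite (MulAut E) := Finite.of_injective _ DFunLike.coe_injective
  refine hA.of_dvd_nat (dvd_trans (Subgroup.card_map_dvd _ (res F)) ?_)
  exact (Subgroup.card_comap_dvd_of_injective A _ Subtype.val_injective)

theorem fix_restr {F : Subgroup E} {A : Subgroup (MulAut E)} (hs : A ≤ stab F) :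
    (fix (restr F A)).map F.subtype = fix A ⊓ F := by
  ext x
  constructor
  · rintro ⟨u, hu, rfl⟩
    exact ⟨fun a ha => congrArg Subtype.val (hu _ (mem_restr ha (hs ha))), u.2⟩
  · rintro ⟨hx, hxF⟩
    refine ⟨⟨x, hxF⟩, ?_, rfl⟩
    rintro _ ⟨⟨a, ha'⟩, ha, rfl⟩
    exact Subtype.ext (hx a ha)

/-- Realization by matrices of a homomorphism pulled back along restriction. -/
def pullHom {F : Subgroup E} {A : Subgroup (MulAut E)} (hs : A ≤ stab F) {M : Type*} [Monoid M]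
    (τ : restr F A →* M) : A →* M :=
  τ.comp (((res F).comp (Subgroup.inclusion hs)).codRestrict (restr F A)
    fun a => mem_restr a.2 (hs a.2))

theorem pullHom_tw {F : Subgroup E} {A : Subgroup (MulAut E)} (hs : A ≤ stab F) {ι : Type}
    [Fintype ι] [DecidableEq ι] {R : F →* Matrix ι ι ℂ} {τ : restr F A →* Matrix ι ι ℂ}
    (hτ : ∀ t : restr F A, Tw R t (τ t)) (a : A) (u : F) :
    pullHom hs τ a * R u = R ⟨(a : MulAut E) u, (hs a.2 u).2 u.2⟩ * pullHom hs τ a :=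
  hτ _ u

variable [Finite E] {z : E} (h : Sp z) {F F' : Subgroup E}

include h in
/-- The representation of a central product. -/
theorem exists_prod (hzF : z ∈ F) (hzF' : z ∈ F')
    (hc : F' ≤ Subgroup.centralizer (F : Set E)) (hinf : F ⊓ F' ≤ Zs h) (hsup : F ⊔ F' = ⊤)
    {ι κ : Type} [Fintype ι] [DecidableEq ι] [Fintype κ] [DecidableEq κ]
    {R₁ : F →* Matrix ι ι ℂ} (h₁ : GR ⟨z, hzF⟩ R₁) {R₂ : F' →* Matrix κ κ ℂ}
    (h₂ : GR ⟨z, hzF'⟩ R₂) :
    ∃ R : E →* Matrix (ι × κ) (ι × κ) ℂ, GR z R ∧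
      (∀ (u : F) (v : F'), R ((u : E) * v) = R₁ u ⊗ₖ R₂ v) ∧
      ∀ e : E, ∃ (u : F) (v : F'), e = u * v := by
  have hcomm : ∀ (u : F) (v : F'), Commute (F.subtype u) (F'.subtype v) := fun u v =>
    (Subgroup.mem_centralizer_iff.1 (hc v.2) u u.2)
  set μ : F × F' →* E := MonoidHom.noncommCoprod F.subtype F'.subtype hcomm with hμ
  have hsurj : Function.Surjective μ := by
    rw [← MonoidHom.range_eq_top, hμ, MonoidHom.noncommCoprod_range]
    simpa using hsup
  let φ : F × F' →* Matrix (ι × κ) (ι × κ) ℂ :=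
    { toFun := fun x => R₁ x.1 ⊗ₖ R₂ x.2
      map_one' := by simp
      map_mul' := fun x y => by simp [mul_kronecker_mul] }
  have hφz : φ (⟨z, hzF⟩, ⟨z, hzF'⟩) = 1 := by
    show R₁ _ ⊗ₖ R₂ _ = 1
    rw [h₁.map_z, h₂.map_z]
    ext ⟨i, j⟩ ⟨i', j'⟩
    by_cases h1 : i = i' <;> by_cases h2 : j = j' <;> simp [Matrix.one_apply, h1, h2]
  have hker : ∀ x ∈ μ.ker, x = 1 ∨ x = ((⟨z, hzF⟩, ⟨z, hzF'⟩) : F × F') := by
    rintro ⟨u, v⟩ hx
    have h1 : (u : E) * v = 1 := hx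
    have h2 : (v : E) = (u : E)⁻¹ := eq_inv_of_mul_eq_one_right h1
    have h3 : (u : E) ∈ F' := by
      have := F'.inv_mem v.2
      rwa [h2, inv_inv] at this
    rcases hinf ⟨u.2, h3⟩ with hu | hu
    · left
      exact Prod.ext (Subtype.ext hu) (Subtype.ext (by rw [h2, hu, inv_one]; rfl))
    · right
      exact Prod.ext (Subtype.ext hu)
        (Subtype.ext (by rw [h2, hu]; exact inv_eq_of_mul_eq_one_right h.mul_self))
  obtain ⟨R, hR⟩ : ∃ R : E →* Matrix (ι × κ) (ι × κ) ℂ, ∀ x, R (μ x) = φ x := by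
    have hwd : ∀ x y, μ x = μ y → φ x = φ y := fun x y hxy => by
      have hk : φ (x * y⁻¹) = 1 := by
        rcases hker (x * y⁻¹) (by rw [MonoidHom.mem_ker, map_mul, map_inv, hxy, mul_inv_cancel])
          with hk | hk
        · rw [hk, map_one]
        · rw [hk, hφz]
      calc φ x = φ (x * y⁻¹) * φ y := by rw [← map_mul, inv_mul_cancel_right]
        _ = φ y := by rw [hk, one_mul]
    refine ⟨{ toFun := fun e => φ (Function.surjInv hsurj e)
              map_one' := ?_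
              map_mul' := fun a b => ?_ }, fun x => hwd _ _ (Function.surjInv_eq hsurj _)⟩
    · rw [hwd _ 1 (by rw [Function.surjInv_eq hsurj, map_one]), map_one]
    · rw [← map_mul]
      exact hwd _ _ (by rw [map_mul, Function.surjInv_eq hsurj, Function.surjInv_eq hsurj,
        Function.surjInv_eq hsurj])
  have hRuv : ∀ (u : F) (v : F'), R ((u : E) * v) = R₁ u ⊗ₖ R₂ v := fun u v => hR (u, v)
  refine ⟨R, ⟨?_, ?_⟩, hRuv, fun e => ?_⟩
  · have h1 := hRuv ⟨z, hzF⟩ 1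
    simp only [OneMemClass.coe_one, mul_one, map_one, h₁.map_z] at h1
    rw [h1]
    ext ⟨i, j⟩ ⟨i', j'⟩
    by_cases h1 : i = i' <;> by_cases h2 : j = j' <;> simp [Matrix.one_apply, h1, h2]
  · have hk2 : Nat.card μ.ker = 2 := by
      have hset : (μ.ker : Set (F × F')) = {1, ((⟨z, hzF⟩, ⟨z, hzF'⟩) : F × F')} := by
        ext x
        constructor
        · exact hker x
        · rintro (rfl | rfl)
          · exact one_mem _
          · exact h.mul_self
      rw [← SetLike.coe_sort_coe, hset, Nat.card_coe_set_eq, Set.ncard_pair]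
      exact fun he => h.ne_one (congrArg (fun p : F × F' => (p.1 : E)) he).symm
    have h3 := μ.ker.card_mul_index
    rw [hk2, Subgroup.index_ker, MonoidHom.range_eq_top.2 hsurj, Subgroup.card_top, Nat.card_prod,
      ← h₁.card, ← h₂.card] at h3
    rw [Fintype.card_prod, mul_pow]
    linarith
  · obtain ⟨⟨u, v⟩, huv⟩ := hsurj e
    exact ⟨u, v, huv.symm⟩

include h in
/-- Realizations on both factors of a stable central decomposition combine. -/
theorem good_prod (hzF : z ∈ F) (hzF' : z ∈ F')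
    (hc : F' ≤ Subgroup.centralizer (F : Set E)) (hinf : F ⊓ F' ≤ Zs h) (hsup : F ⊔ F' = ⊤)
    (T : Subgroup (MulAut E)) (hT : T ≤ stab F) (hT' : T ≤ stab F')
    (g₁ : Good (⟨z, hzF⟩ : F) (restr F T)) (g₂ : Good (⟨z, hzF'⟩ : F') (restr F' T)) :
    Good z T := by
  obtain ⟨ι, _, _, R₁, τ₁, h₁, t₁⟩ := g₁
  obtain ⟨κ, _, _, R₂, τ₂, h₂, t₂⟩ := g₂
  obtain ⟨R, hR, hRuv, hdec⟩ := exists_prod h hzF hzF' hc hinf hsup h₁ h₂
  refine ⟨ι × κ, inferInstance, inferInstance, R,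
    { toFun := fun t => pullHom hT τ₁ t ⊗ₖ pullHom hT' τ₂ t
      map_one' := by simp
      map_mul' := fun a b => by simp [mul_kronecker_mul] }, hR, fun t e => ?_⟩
  obtain ⟨u, v, rfl⟩ := hdec e
  show (pullHom hT τ₁ t ⊗ₖ pullHom hT' τ₂ t) * R _ = R _ * (pullHom hT τ₁ t ⊗ₖ pullHom hT' τ₂ t)
  rw [map_mul (t : MulAut E), hRuv, hRuv ⟨_, (hT t.2 u).2 u.2⟩ ⟨_, (hT' t.2 v).2 v.2⟩,
    ← mul_kronecker_mul, ← mul_kronecker_mul, pullHom_tw hT t₁, pullHom_tw hT' t₂]

/-- The matrix exchanging the tensor factors. -/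
def swapMat (ι : Type) [DecidableEq ι] : Matrix (ι × ι) (ι × ι) ℂ :=
  fun i j => if i.swap = j then 1 else 0

theorem swapMat_mul {ι : Type} [Fintype ι] [DecidableEq ι] (A B : Matrix ι ι ℂ) :
    swapMat ι * (A ⊗ₖ B) = (B ⊗ₖ A) * swapMat ι := by
  ext i j
  simp only [Matrix.mul_apply, swapMat, ite_mul, one_mul, zero_mul, mul_ite, mul_one, mul_zero,
    Finset.sum_ite_eq, Finset.mem_univ, if_true, kronecker_apply]
  rw [Finset.sum_eq_single j.swap, if_pos (Prod.swap_swap j)]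
  · exact mul_comm _ _
  · intro k _ hk
    rw [if_neg]
    rintro rfl
    exact hk (Prod.swap_swap k).symm
  · simp

theorem swapMat_sq {ι : Type} [Fintype ι] [DecidableEq ι] : swapMat ι * swapMat ι = 1 := by
  ext i j
  simp only [Matrix.mul_apply, swapMat, Matrix.one_apply, mul_ite, mul_one, mul_zero]
  rw [Finset.sum_eq_single i.swap]
  · simp [Prod.swap_swap]
  · intro k _ hk
    rw [if_neg (Ne.symm hk), ite_self]
  · simp

include h in
/-- Tensor induction from a subgroup of index two. -/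
theorem good_wreath (hzF : z ∈ F) (T T' : Subgroup (MulAut E)) (hle : T' ≤ T)
    (hidx : (T'.subgroupOf T).index = 2) {t₀ : MulAut E} (ht₀ : t₀ ∈ T) (ht₀' : t₀ ∉ T')
    (hT' : T' ≤ stab F) (hF' : F' = F.map t₀.toMonoidHom)
    (hc : F' ≤ Subgroup.centralizer (F : Set E)) (hinf : F ⊓ F' ≤ Zs h) (hsup : F ⊔ F' = ⊤)
    (g₁ : Good (⟨z, hzF⟩ : F) (restr F T')) : Good z T := by
  classical
  obtain ⟨ι, _, _, R₁, τ₁, h₁, t₁⟩ := g₁
  have hzF' : z ∈ F' := hF' ▸ ⟨z, hzF, aut_z h t₀⟩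
  have hpre : ∀ v : F', t₀⁻¹ (v : E) ∈ F := fun v => by
    obtain ⟨u, hu, huv⟩ : (v : E) ∈ F.map t₀.toMonoidHom := hF' ▸ v.2
    rw [← huv]
    show t₀.symm (t₀ u) ∈ F
    rwa [MulEquiv.symm_apply_apply]
  let g : F' →* F := (((t₀⁻¹ : MulAut E).toMonoidHom).comp F'.subtype).codRestrict F hpre
  set R₂ : F' →* Matrix ι ι ℂ := R₁.comp g with hR₂
  have h₂ : GR (⟨z, hzF'⟩ : F') R₂ := by
    refine ⟨?_, ?_⟩
    · rw [hR₂, MonoidHom.comp_apply, show g ⟨z, hzF'⟩ = ⟨z, hzF⟩ from Subtype.ext (aut_z h t₀⁻¹),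
        h₁.map_z]
    · rw [h₁.card, hF']
      exact Nat.card_congr (F.equivMapOfInjective _ t₀.injective).toEquiv
  obtain ⟨R, hR, hRuv, hdec⟩ := exists_prod h hzF hzF' hc hinf hsup h₁ h₂
  let σ : T' →* Matrix ι ι ℂ := pullHom hT' τ₁
  let f : MulAut E → Matrix ι ι ℂ := fun a => if ha : a ∈ T' then σ ⟨a, ha⟩ else 0
  have fmul : ∀ a b, a ∈ T' → b ∈ T' → f (a * b) = f a * f b := fun a b ha hb => by
    simp only [f, dif_pos ha, dif_pos hb, dif_pos (T'.mul_mem ha hb)]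
    exact map_mul σ ⟨a, ha⟩ ⟨b, hb⟩
  have ftw : ∀ a (ha : a ∈ T') (u : F), f a * R₁ u = R₁ ⟨a u, (hT' ha u).2 u.2⟩ * f a :=
    fun a ha u => by
      simp only [f, dif_pos ha]
      exact pullHom_tw hT' t₁ ⟨a, ha⟩ u
  have hmix : ∀ a b : MulAut E, a ∈ T → b ∈ T → (a * b ∈ T' ↔ (a ∈ T' ↔ b ∈ T')) :=
    fun a b ha hb => Subgroup.mul_mem_iff_of_index_two hidx (a := ⟨a, ha⟩) (b := ⟨b, hb⟩)
  have hinv₀ : t₀⁻¹ ∉ T' := fun hi => ht₀' (T'.inv_mem_iff.1 hi)
  have hA : ∀ {t}, t ∈ T → t ∈ T' → t₀⁻¹ * t * t₀ ∈ T' := fun {t} ht ht' => by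
    rw [hmix _ _ (mul_mem (inv_mem ht₀) ht) ht₀, hmix _ _ (inv_mem ht₀) ht]
    tauto
  have hB : ∀ {t}, t ∈ T → t ∉ T' → t₀⁻¹ * t ∈ T' ∧ t * t₀ ∈ T' := fun {t} ht ht' => by
    rw [hmix _ _ (inv_mem ht₀) ht, hmix _ _ ht ht₀]
    tauto
  set P := swapMat ι with hP
  let τ : T → Matrix (ι × ι) (ι × ι) ℂ := fun t =>
    if (t : MulAut E) ∈ T' then f t ⊗ₖ f (t₀⁻¹ * t * t₀)
    else P * (f (t₀⁻¹ * t) ⊗ₖ f (t * t₀))
  have τin : ∀ t : T, (t : MulAut E) ∈ T' → τ t = f t ⊗ₖ f (t₀⁻¹ * t * t₀) := fun t ht => if_pos ht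
  have τout : ∀ t : T, (t : MulAut E) ∉ T' → τ t = P * (f (t₀⁻¹ * t) ⊗ₖ f (t * t₀)) :=
    fun t ht => if_neg ht
  have hmul : ∀ t s : T, τ (t * s) = τ t * τ s := by
    intro t s
    have hm := hmix _ _ t.2 s.2
    by_cases ht : (t : MulAut E) ∈ T' <;> by_cases hs : (s : MulAut E) ∈ T'
    · rw [τin _ (hm.2 ⟨fun _ => hs, fun _ => ht⟩), τin _ ht, τin _ hs, ← mul_kronecker_mul,
        ← fmul _ _ ht hs, ← fmul _ _ (hA t.2 ht) (hA s.2 hs)]
      simp [mul_assoc]
    · rw [τout _ (fun hts => hs ((hm.1 hts).1 ht)), τin _ ht, τout _ hs, ← mul_assoc, hP,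
        ← swapMat_mul, mul_assoc, ← mul_kronecker_mul, ← fmul _ _ (hA t.2 ht) (hB s.2 hs).1,
        ← fmul _ _ ht (hB s.2 hs).2]
      simp [mul_assoc]
    · rw [τout _ (fun hts => ht ((hm.1 hts).2 hs)), τout _ ht, τin _ hs, mul_assoc,
        ← mul_kronecker_mul, ← fmul _ _ (hB t.2 ht).1 hs, ← fmul _ _ (hB t.2 ht).2 (hA s.2 hs)]
      simp [mul_assoc]
    · rw [τin _ (hm.2 ⟨fun h' => absurd h' ht, fun h' => absurd h' hs⟩), τout _ ht, τout _ hs,
        hP, swapMat_mul]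
      rw [mul_assoc _ (swapMat ι), ← mul_assoc (swapMat ι) (swapMat ι), swapMat_sq, one_mul,
        ← mul_kronecker_mul, ← fmul _ _ (hB t.2 ht).2 (hB s.2 hs).1,
        ← fmul _ _ (hB t.2 ht).1 (hB s.2 hs).2]
      simp [mul_assoc]
  have hone : τ 1 = 1 := by
    rw [τin 1 T'.one_mem]
    have : f 1 = 1 := by
      simp only [f, dif_pos T'.one_mem]
      exact map_one σ
    simp [this]
  refine ⟨ι × ι, inferInstance, inferInstance, R, { toFun := τ, map_one' := hone, map_mul' := hmul },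
    hR, fun t e => ?_⟩
  obtain ⟨u, v, rfl⟩ := hdec e
  show τ t * R _ = R _ * τ t
  by_cases ht : (t : MulAut E) ∈ T'
  · have hv : (t : MulAut E) v ∈ F' := by
      have h1 := Subgroup.mem_map_of_mem t₀.toMonoidHom ((hT' (hA t.2 ht) (g v)).2 (g v).2)
      rw [← hF'] at h1
      simpa [g] using h1
    rw [τin _ ht, map_mul (t : MulAut E), hRuv, hRuv ⟨_, (hT' ht u).2 u.2⟩ ⟨_, hv⟩,
      ← mul_kronecker_mul, ← mul_kronecker_mul, ftw _ ht, hR₂, MonoidHom.comp_apply,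
      ftw _ (hA t.2 ht)]
    refine congrArg (fun w => (R₁ _ * f _) ⊗ₖ (R₁ w * f _)) (Subtype.ext ?_)
    show _ = _
    simp [g]
  · have hv : (t : MulAut E) v ∈ F := by
      have h1 := (hT' (hB t.2 ht).2 (g v)).2 (g v).2
      simpa [g] using h1
    have hu : (t : MulAut E) u ∈ F' := by
      have h1 := Subgroup.mem_map_of_mem t₀.toMonoidHom ((hT' (hB t.2 ht).1 u).2 u.2)
      rw [← hF'] at h1
      simpa using h1
    rw [τout _ ht, map_mul (t : MulAut E),
      show (t : MulAut E) (u : E) * (t : MulAut E) (v : E) =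
        (t : MulAut E) (v : E) * (t : MulAut E) (u : E) from
        ((Subgroup.mem_centralizer_iff.1 (hc hu)) _ hv).symm,
      hRuv, hRuv ⟨_, hv⟩ ⟨_, hu⟩, mul_assoc, ← mul_kronecker_mul, hR₂, MonoidHom.comp_apply,
      ftw _ (hB t.2 ht).1, ftw _ (hB t.2 ht).2, mul_kronecker_mul, ← mul_assoc, hP, swapMat_mul,
      mul_assoc]
    congr 3 <;> exact Subtype.ext (by simp [g])

end CfsgLib.CharDeep.ExtraExtend
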