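import Cfsg.Agent.Lib.CharDeep.ExtraExtend.Cyclic
import Cfsg.Agent.Lib.CharDeep.ExtraExtend.Glue
import Cfsg.Agent.S0205
import Mathlib.GroupTheory.Solvable
import Mathlib.GroupTheory.Perm.Cycle.Type

/-!
# Realization of a 2-group normalizing an odd group without fixed points

If a 2-group `T` of automorphisms normalizes a group `K` of odd order with fixed subgroup
`{1, z}`, then `T` is realized on the faithful irreducible representation.
-/

namespace CfsgLib.CharDeep.ExtraExtend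

open Matrix

universe u

section Basic

variable {E : Type*} [Group E] [Finite E] {z : E} (h : Sp z)

include h in
/-- An irreducible representation negative on `z` has the expected degree. -/
theorem gr_of_irreducible {ι : Type} [Fintype ι] [DecidableEq ι] (R : E →* Matrix ι ι ℂ)
    [(toRep R).IsIrreducible] (hz : R z = -1) : GR z R := by
  classical
  cases nonempty_fintype E
  refine ⟨hz, ?_⟩
  have h1 := CfsgLib.Char.classInner_irr_self (IrrTools.isIrrCharacter_character (toRep R))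
  have hsum : ∑ g : E, (toRep R).character g * (starRingEnd ℂ) ((toRep R).character g) =
      2 * (Fintype.card ι : ℂ) ^ 2 := by
    rw [← Finset.sum_subset (Finset.subset_univ ({1, z} : Finset E)) fun g _ hg => by
      simp only [Finset.mem_insert, Finset.mem_singleton, not_or] at hg
      rw [toRep_character, trace_eq_zero h hz fun hc => hc.elim hg.1 hg.2, zero_mul]]
    rw [Finset.sum_pair h.ne_one.symm]
    simp only [toRep_character, map_one, hz, trace_neg, trace_one, map_neg, map_natCast]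
    ring
  rw [Cfsg.classInner, hsum, inv_mul_eq_one₀ (Nat.cast_ne_zero.2 Nat.card_pos.ne')] at h1
  exact_mod_cast h1.symm

include h in
/-- Existence of the faithful irreducible representation. -/
theorem exists_gr : ∃ (n : ℕ) (R : E →* Matrix (Fin n) (Fin n) ℂ), GR z R := by
  classical
  cases nonempty_fintype E
  have hconj : ¬ IsConj z 1 := fun hc => h.ne_one (isConj_one_right.1 hc.symm)
  rw [CfsgLib.Char.isConj_iff_forall_irr] at hconj
  push Not at hconj
  obtain ⟨χ, hχne⟩ := hconj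
  obtain ⟨n, ρ, hρ, hχ⟩ := χ.2
  haveI := hρ
  have : Nontrivial (Fin n → ℂ) := IrrTools.apply_ne_zero_of_isIrreducible ρ
  obtain ⟨c, hc⟩ := IrrTools.exists_smul_of_commute ρ (ρ z) fun g => by
    rw [← map_mul, ← map_mul, h.central]
  have hc2 : c * c = 1 := by
    have h1 : ρ z * ρ z = 1 := by rw [← map_mul, h.mul_self, map_one]
    rw [hc, smul_mul_smul_comm, one_mul] at h1
    by_contra hne
    obtain ⟨v, hv⟩ := exists_ne (0 : Fin n → ℂ)
    have h2 := LinearMap.congr_fun h1 v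
    simp only [LinearMap.smul_apply, Module.End.one_apply] at h2
    have h3 : (c * c - 1) • v = 0 := by rw [sub_smul, h2, one_smul, sub_self]
    exact hv ((smul_eq_zero.1 h3).resolve_left (sub_ne_zero.2 hne))
  rcases mul_self_eq_one_iff.1 hc2 with hc1 | hc1
  · refine absurd ?_ hχne
    rw [← hχ]
    show LinearMap.trace ℂ _ (ρ z) = LinearMap.trace ℂ _ (ρ 1)
    rw [map_one ρ, hc, hc1, one_smul]
  · set R : E →* Matrix (Fin n) (Fin n) ℂ :=
      (Matrix.toLinAlgEquiv' : Matrix (Fin n) (Fin n) ℂ ≃ₐ[ℂ] _).symm.toMonoidHom.comp ρ with hR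
    have hRρ : toRep R = ρ := MonoidHom.ext fun g =>
      (Matrix.toLinAlgEquiv' : Matrix (Fin n) (Fin n) ℂ ≃ₐ[ℂ] _).apply_symm_apply (ρ g)
    haveI : (toRep R).IsIrreducible := hRρ ▸ hρ
    refine ⟨n, R, gr_of_irreducible h R ?_⟩
    show (Matrix.toLinAlgEquiv' : Matrix (Fin n) (Fin n) ℂ ≃ₐ[ℂ] _).symm (ρ z) = -1
    rw [hc, hc1, map_smul, map_one]
    simp

include h in
omit [Finite E] in
theorem stab_le_stab_centralizer {X : Subgroup E} :
    stab X ≤ stab (Subgroup.centralizer (X : Set E)) := by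
  intro a ha x
  simp only [Subgroup.mem_centralizer_iff]
  constructor
  · exact fun hx y hy => a.injective (by rw [map_mul, map_mul]; exact hx _ ((ha y).2 hy))
  · intro hx y hy
    have h1 := congrArg a (hx (a⁻¹ y) (((stab X).inv_mem ha y).2 hy))
    rwa [map_mul, map_mul, show a (a⁻¹ y) = y from a.apply_symm_apply y] at h1

omit [Finite E] in
theorem nd_centralizer {X : Subgroup E} (hX : Nd X) : Nd (Subgroup.centralizer (X : Set E)) := by
  intro x
  obtain ⟨u, hu, hr⟩ := hX x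
  refine ⟨u⁻¹ * x, hr, Subgroup.mem_centralizer_iff.2 fun y hy => ?_⟩
  have h1 : (u⁻¹ * x)⁻¹ * x = u := by
    have h2 := Subgroup.mem_centralizer_iff.1 hr u hu
    have h3 : x = (u⁻¹ * x) * u := by rw [← h2, mul_inv_cancel_left]
    conv_lhs => arg 2; rw [h3]
    rw [inv_mul_cancel_left]
  rw [h1]
  exact (Subgroup.mem_centralizer_iff.1 hy u hu).symm

omit [Finite E] in
theorem sup_centralizer {X : Subgroup E} (hX : Nd X) :
    X ⊔ Subgroup.centralizer (X : Set E) = ⊤ := eq_top_iff.2 fun x _ => by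
  obtain ⟨u, hu, hr⟩ := hX x
  rw [← mul_inv_cancel_left u x]
  exact Subgroup.mul_mem_sup hu hr

include h in
theorem card_lt_of_not_le {X : Subgroup E} (hX : ¬ Subgroup.centralizer (X : Set E) ≤ Zs h) :
    Nat.card X < Nat.card E := by
  refine lt_of_le_of_ne X.card_le_card_group fun he => hX ?_
  rw [X.eq_top_of_card_eq he]
  intro x hx
  exact center_mem h fun y => (Subgroup.mem_centralizer_iff.1 hx y trivial).symm

/-- A non-trivial abelian subgroup of exponent `q` invariant under the normalizer. -/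
theorem exists_abelian (K : Subgroup (MulAut E)) (hK : Odd (Nat.card K)) (hne : K ≠ ⊥) :
    ∃ (q : ℕ) (M : Subgroup (MulAut E)), q.Prime ∧ Odd q ∧ M ≤ K ∧ M ≠ ⊥ ∧
      (∀ a ∈ M, ∀ b ∈ M, a * b = b * a) ∧ (∀ a ∈ M, a ^ q = 1) ∧
      ∀ g : MulAut E, (∀ k ∈ K, g * k * g⁻¹ ∈ K) → ∀ a ∈ M, g * a * g⁻¹ ∈ M := by
  classical
  haveI : Finite (MulAut E) := Finite.of_injective _ DFunLike.coe_injective
  obtain ⟨n, hn⟩ := Cfsg.Agent.S0205.result hK
  let D : ℕ → Subgroup (MulAut E) := fun i => (derivedSeries K i).map K.subtype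
  have hsucc : ∀ i, D (i + 1) = ⁅D i, D i⁆ := fun i => by
    show (derivedSeries K (i + 1)).map _ = _
    rw [derivedSeries_succ, Subgroup.map_commutator]
  have h0 : D 0 = K := by
    show (derivedSeries K 0).map _ = _
    rw [derivedSeries_zero, ← MonoidHom.range_eq_map, Subgroup.range_subtype]
  have hex : ∃ i, D i = ⊥ := ⟨n, by show (derivedSeries K n).map _ = _; rw [hn, Subgroup.map_bot]⟩
  obtain ⟨m, hm⟩ : ∃ m, Nat.find hex = m + 1 := by
    refine Nat.exists_eq_succ_of_ne_zero fun hz0 => hne ?_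
    rw [← h0, ← hz0]
    exact Nat.find_spec hex
  set A := D m with hA
  have hAne : A ≠ ⊥ := Nat.find_min hex (by omega)
  have hAc : ∀ a ∈ A, ∀ b ∈ A, a * b = b * a := by
    intro a ha b hb
    have h1 : ⁅A, A⁆ = ⊥ := by rw [← hsucc, ← hm]; exact Nat.find_spec hex
    exact (Subgroup.mem_centralizer_iff.1 (Subgroup.commutator_eq_bot_iff_le_centralizer.1 h1 hb)
      a ha)
  have hAK : A ≤ K := by
    rintro _ ⟨x, -, rfl⟩
    exact x.2
  have hinv : ∀ g : MulAut E, (∀ k ∈ K, g * k * g⁻¹ ∈ K) →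
      ∀ i, (D i).map (MulAut.conj g).toMonoidHom = D i := by
    intro g hg i
    induction i with
    | zero =>
      rw [h0]
      refine Subgroup.eq_of_le_of_card_ge ?_ ?_
      · rintro _ ⟨k, hk, rfl⟩
        simpa using hg k hk
      · rw [Subgroup.card_map_of_injective (MulAut.conj g).injective]
    | succ i ih => rw [hsucc, Subgroup.map_commutator, ih]
  haveI : Nontrivial A := (Subgroup.nontrivial_iff_ne_bot A).2 hAne
  have hAodd : Odd (Nat.card A) := hK.of_dvd_nat (Subgroup.card_dvd_of_le hAK)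
  obtain ⟨q, hq, hqA⟩ := Nat.exists_prime_and_dvd (Finite.one_lt_card (α := A)).ne'
  let M : Subgroup (MulAut E) :=
    { carrier := {x | x ∈ A ∧ x ^ q = 1}
      one_mem' := ⟨one_mem _, one_pow _⟩
      mul_mem' := fun {a b} ha hb => ⟨mul_mem ha.1 hb.1, by
        rw [(show Commute a b from hAc a ha.1 b hb.1).mul_pow, ha.2, hb.2, one_mul]⟩
      inv_mem' := fun {a} ha => ⟨inv_mem ha.1, by rw [inv_pow, ha.2, inv_one]⟩ }
  haveI : Fact q.Prime := ⟨hq⟩
  obtain ⟨x, hx⟩ := exists_prime_orderOf_dvd_card' q hqA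
  refine ⟨q, M, hq, hAodd.of_dvd_nat hqA, fun a ha => hAK ha.1, fun hbot => ?_,
    fun a ha b hb => hAc a ha.1 b hb.1, fun a ha => ha.2, fun g hg a ha => ⟨?_, ?_⟩⟩
  · have hxM : (x : MulAut E) ∈ M := ⟨x.2, by
      rw [← SubgroupClass.coe_pow, ← hx, pow_orderOf_eq_one, OneMemClass.coe_one]⟩
    rw [hbot, Subgroup.mem_bot, OneMemClass.coe_eq_one] at hxM
    rw [hxM, orderOf_one] at hx
    exact hq.ne_one hx.symm
  · rw [hA, ← hinv g hg m]
    exact ⟨a, ha.1, by simp⟩
  · rw [conj_pow, ha.2, mul_one, mul_inv_cancel]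

end Basic

/-- The induction statement. -/
def Claim (n : ℕ) : Prop :=
  ∀ (E : Type u) [Group E] [Finite E] (z : E) (h : Sp z) (T K : Subgroup (MulAut E)),
    Nat.card E ≤ n → IsPGroup 2 T → Odd (Nat.card K) →
    (∀ t ∈ T, ∀ k ∈ K, t * k * t⁻¹ ∈ K) → fix K ≤ Zs h → Good z T

variable {E : Type u} [Group E] [Finite E] {z : E} (h : Sp z)

include h in
theorem good_sub {n : ℕ} (hn : Claim.{u} n) {X : Subgroup E} (hX : Nd X) (hzX : z ∈ X)
    (hlt : Nat.card X ≤ n) {T K : Subgroup (MulAut E)} (hT : IsPGroup 2 T) (hK : Odd (Nat.card K))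
    (hnorm : ∀ t ∈ T, ∀ k ∈ K, t * k * t⁻¹ ∈ K) (hKs : K ≤ stab X) (hfix : fix K ⊓ X ≤ Zs h) :
    Good (⟨z, hzX⟩ : X) (restr X T) := by
  refine hn X ⟨z, hzX⟩ (sp_of_nd h hX hzX) (restr X T) (restr X K) hlt (isPGroup_restr hT)
    (odd_card_restr hK) ?_ fun u hu => ?_
  · rintro _ ⟨⟨t, hts⟩, ht, rfl⟩ _ ⟨⟨k, hks⟩, hk, rfl⟩
    rw [← map_inv, ← map_mul, ← map_mul]
    exact ⟨_, hnorm t ht k hk, rfl⟩
  · have h1 : (u : E) ∈ fix K ⊓ X := by
      rw [← fix_restr hKs]
      exact ⟨u, hu, rfl⟩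
    exact (hfix h1).imp Subtype.ext Subtype.ext

include h in
theorem good_split {n : ℕ} (hn : Claim.{u} n) (hE : Nat.card E ≤ n + 1) {X : Subgroup E}
    (hX : Nd X) (hzX : z ∈ X) (hne : ¬ X ≤ Zs h)
    (hne' : ¬ Subgroup.centralizer (X : Set E) ≤ Zs h)
    {T K K' : Subgroup (MulAut E)} (hT : IsPGroup 2 T) (hTs : T ≤ stab X)
    (hK : Odd (Nat.card K)) (hnorm : ∀ t ∈ T, ∀ k ∈ K, t * k * t⁻¹ ∈ K) (hKs : K ≤ stab X)
    (hfix : fix K ⊓ X ≤ Zs h)
    (hK' : Odd (Nat.card K')) (hnorm' : ∀ t ∈ T, ∀ k ∈ K', t * k * t⁻¹ ∈ K') (hKs' : K' ≤ stab X)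
    (hfix' : fix K' ⊓ Subgroup.centralizer (X : Set E) ≤ Zs h) : Good z T := by
  have hzC : z ∈ Subgroup.centralizer (X : Set E) :=
    Subgroup.mem_centralizer_iff.2 fun y _ => (h.central y).symm
  have hlt := card_lt_of_not_le h hne'
  have hlt' : Nat.card (Subgroup.centralizer (X : Set E)) < Nat.card E := by
    refine card_lt_of_not_le h fun hle => hne ?_
    exact (Subgroup.le_centralizer_iff.1 le_rfl : X ≤ _).trans hle
  exact good_prod h hzX hzC le_rfl (inf_centralizer_le h hX) (sup_centralizer hX) T hTs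
    (hTs.trans (stab_le_stab_centralizer h))
    (good_sub h hn hX hzX (by omega) hT hK hnorm hKs hfix)
    (good_sub h hn (nd_centralizer hX) hzC (by omega) hT hK' hnorm'
      (hKs'.trans (stab_le_stab_centralizer h)) hfix')

include h in
/-- Fixed subgroups of distinct maximal subgroups of an abelian group commute. -/
theorem fix_le_centralizer {M M₀ M₁ : Subgroup (MulAut E)} (hModd : Odd (Nat.card M))
    (hMc : ∀ a ∈ M, ∀ b ∈ M, a * b = b * a)
    (hmax : ∀ N ≤ M, Nat.card M₀ < Nat.card N → fix N ≤ Zs h)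
    (h₀ : M₀ ≤ M) (h₁ : M₁ ≤ M) (hcard : Nat.card M₁ = Nat.card M₀) (hne : M₁ ≠ M₀) :
    fix M₁ ≤ Subgroup.centralizer (fix M₀ : Set E) := by
  haveI : Finite (MulAut E) := Finite.of_injective _ DFunLike.coe_injective
  intro x hx
  obtain ⟨y, hy, hy1, hy2⟩ := exists_decomp h M₀
    (hModd.of_dvd_nat (Subgroup.card_dvd_of_le h₀)) (fix M₁)
    (fun a ha u hu => apply_mem_fix (fun b hb => by
      rw [mul_assoc, hMc b (h₁ hb) a (h₀ ha), inv_mul_cancel_left]
      exact hb) hu) hx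
  have h2 : fix (M₁ ⊔ M₀) ≤ Zs h := by
    refine hmax _ (sup_le h₁ h₀) (lt_of_le_of_ne (Subgroup.card_le_of_le le_sup_right) fun he => ?_)
    have h3 : M₀ = M₁ ⊔ M₀ := Subgroup.eq_of_le_of_card_ge le_sup_right he.ge
    have h4 : M₁ ≤ M₀ := by rw [h3]; exact le_sup_left
    exact hne (Subgroup.eq_of_le_of_card_ge h4 hcard.ge)
  rw [fix_sup] at h2
  rw [← mul_inv_cancel_left y x]
  exact mul_mem (Subgroup.mem_centralizer_iff.2 fun e _ =>
    (Zs_central h (h2 ⟨hy1, hy⟩) e).symm) hy2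

set_option maxHeartbeats 800000 in
include h in
theorem good_orbit {n : ℕ} (hn : Claim.{u} n) (hE : Nat.card E ≤ n + 1)
    {T M M₀ : Subgroup (MulAut E)} (hT : IsPGroup 2 T) (hModd : Odd (Nat.card M))
    (hMc : ∀ a ∈ M, ∀ b ∈ M, a * b = b * a) (hMT : ∀ t ∈ T, ∀ a ∈ M, t * a * t⁻¹ ∈ M)
    (hfixM : fix M ≤ Zs h) (hM₀ : M₀ ≤ M) (hne : ¬ fix M₀ ≤ Zs h) (htop : fix M₀ ≠ ⊤)
    (hmax : ∀ N ≤ M, Nat.card M₀ < Nat.card N → fix N ≤ Zs h) : Good z T := by
  classical
  haveI : Finite (MulAut E) := Finite.of_injective _ DFunLike.coe_injective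
  let Mt : MulAut E → Subgroup (MulAut E) := fun t => M₀.map (MulAut.conj t).toMonoidHom
  let U : MulAut E → Subgroup E := fun t => fix (Mt t)
  have hMt : ∀ t ∈ T, Mt t ≤ M := fun t ht => by
    rintro _ ⟨a, ha, rfl⟩
    simpa using hMT t ht a (hM₀ ha)
  have hMtmul : ∀ a t, Mt (a * t) = (Mt t).map (MulAut.conj a).toMonoidHom := fun a t => by
    show M₀.map _ = (M₀.map _).map _
    rw [Subgroup.map_map]
    rw [map_mul]
    rfl
  have hUmul : ∀ a t, (U t).map a.toMonoidHom = U (a * t) := fun a t => by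
    show (fix _).map _ = fix _
    rw [map_fix, hMtmul]
  have hMt1 : Mt 1 = M₀ := by
    show M₀.map _ = M₀
    rw [map_one]
    exact M₀.map_id
  have hcard : ∀ t, Nat.card (Mt t) = Nat.card M₀ := fun t =>
    Subgroup.card_map_of_injective (MulAut.conj t).injective
  have hUnd : ∀ t ∈ T, Nd (U t) := fun t ht =>
    nd_fix h _ (hModd.of_dvd_nat (Subgroup.card_dvd_of_le (hMt t ht)))
  have hUc : ∀ t ∈ T, ∀ s ∈ T, Mt t ≠ Mt s → U t ≤ Subgroup.centralizer (U s : Set E) :=
    fun t ht s hs hts => fix_le_centralizer h hModd hMc (fun N hN hlt => hmax N hN (hcard s ▸ hlt))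
      (hMt s hs) (hMt t ht) (by rw [hcard, hcard]) hts
  have hMU : ∀ t ∈ T, ∀ a ∈ M, (U t).map a.toMonoidHom ≤ U t := fun t ht a ha => by
    rintro _ ⟨x, hx, rfl⟩
    refine apply_mem_fix (fun b hb => ?_) hx
    rw [mul_assoc, hMc b (hMt t ht hb) a ha, inv_mul_cancel_left]
    exact hb
  have hzU : ∀ t, z ∈ U t := fun t => Zs_le_fix h _ (z_mem_Zs h)
  have hU : ∀ t, U t = fix (Mt t) := fun t => rfl
  clear_value U Mt
  have stab_iSup : ∀ (Y : Subgroup (MulAut E)) (hY : Y ≤ T) (A : Subgroup (MulAut E)),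
      (∀ a ∈ A, ∀ t : Y, ∃ s : Y, (U t).map a.toMonoidHom ≤ U s) → A ≤ stab (⨆ t : Y, U t) := by
    intro Y hY A hA a ha
    refine mem_stab_of_map_le fun x hx => ?_
    have h1 : (⨆ t : Y, U t).map a.toMonoidHom ≤ ⨆ t : Y, U t := by
      rw [Subgroup.map_iSup]
      refine iSup_le fun t => ?_
      obtain ⟨s, hs⟩ := hA a ha t
      exact hs.trans (le_iSup (fun s : Y => U s) s)
    exact h1 ⟨x, hx, rfl⟩
  have nd_iSup : ∀ (Y : Subgroup (MulAut E)) (hY : Y ≤ T), Nd (⨆ t : Y, U t) := by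
    intro Y hY
    haveI : Fintype Y := Fintype.ofFinite _
    rw [← Finset.sup_univ_eq_iSup]
    exact nd_finset_sup (fun t : Y => U t) (fun t => hUnd t (hY t.2))
      (fun t s hts => hUc t (hY t.2) s (hY s.2) fun he => hts (by simp only [hU, he])) _
  set X := ⨆ t : T, U t with hX
  have hTX : T ≤ stab X := stab_iSup T le_rfl T fun a ha t =>
    ⟨⟨a, ha⟩ * t, (hUmul a t).le⟩
  have hMX : M ≤ stab X := stab_iSup T le_rfl M fun a ha t => ⟨t, hMU t t.2 a ha⟩
  have hUX : fix M₀ ≤ X := by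
    have h1 := le_iSup (fun t : T => U t) 1
    rwa [show U ((1 : T) : MulAut E) = fix M₀ from by rw [Subgroup.coe_one, hU, hMt1]] at h1
  have hXne : ¬ X ≤ Zs h := fun hle => hne (hUX.trans hle)
  by_cases hXC : Subgroup.centralizer (X : Set E) ≤ Zs h
  swap
  · exact good_split h hn hE (nd_iSup T le_rfl) (hUX (Zs_le_fix h _ (z_mem_Zs h))) hXne hXC hT hTX
      hModd hMT hMX (inf_le_left.trans hfixM) hModd hMT hMX (inf_le_left.trans hfixM)
  have hXtop : X = ⊤ := by
    refine eq_top_iff.2 ((sup_centralizer (nd_iSup T le_rfl)).ge.trans (sup_le le_rfl ?_))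
    exact hXC.trans ((Zs_le_fix h _).trans hUX)
  let S : Subgroup T :=
    { carrier := {t | Mt t = M₀}
      one_mem' := hMt1
      mul_mem' := fun {a b} ha hb => by
        show Mt ((a : MulAut E) * b) = M₀
        rw [hMtmul, show Mt (b : MulAut E) = M₀ from hb, ← hMt1, ← hMtmul, mul_one, hMt1]
        exact ha
      inv_mem' := fun {a} ha => by
        show Mt (a : MulAut E)⁻¹ = M₀
        have h1 : Mt (((a : MulAut E))⁻¹ * a) = (Mt a).map (MulAut.conj (a : MulAut E)⁻¹).toMonoidHom :=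
          hMtmul _ _
        rw [inv_mul_cancel, hMt1, show Mt (a : MulAut E) = M₀ from ha] at h1
        rw [← mul_one (a : MulAut E)⁻¹, hMtmul, hMt1]
        exact h1.symm }
  have hS : S ≠ ⊤ := by
    intro hS
    have hall : X ≤ fix M₀ := iSup_le fun t => by
      rw [hU]
      rw [show Mt (t : MulAut E) = M₀ from (hS ▸ Subgroup.mem_top t : t ∈ S)]
    exact htop (eq_top_iff.2 (hXtop ▸ hall))
  obtain ⟨Mx, hMx, hSMx⟩ := (eq_top_or_exists_le_coatom S).resolve_left hS
  have hidx : Mx.index = 2 := by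
    haveI : Fact (Nat.Prime 2) := ⟨Nat.prime_two⟩
    exact CfsgLib.PGroup.Frattini.index_of_isCoatom hT hMx
  set T' := Mx.map T.subtype with hT'
  have hT'le : T' ≤ T := Subgroup.map_subtype_le Mx
  have hsub : T'.subgroupOf T = Mx := Subgroup.comap_map_eq_self_of_injective T.subtype_injective Mx
  obtain ⟨t₀, ht₀⟩ : ∃ t₀ : T, t₀ ∉ Mx := by
    by_contra hc
    push Not at hc
    exact hMx.1 (eq_top_iff.2 fun t _ => hc t)
  have ht₀T' : (t₀ : MulAut E) ∉ T' := fun hm => ht₀ (hsub ▸ hm : t₀ ∈ Mx)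
  have hdist : ∀ t ∈ T', ∀ s ∈ T', Mt (t₀ * s) ≠ Mt t := by
    intro t ht s hs heq
    have h1 : (t⁻¹ * (t₀ * s) : MulAut E) ∈ T' := by
      have hm : (⟨t, hT'le ht⟩⁻¹ * (t₀ * ⟨s, hT'le hs⟩) : T) ∈ S := by
        show Mt (t⁻¹ * ((t₀ : MulAut E) * s)) = M₀
        rw [hMtmul, heq, ← hMtmul, inv_mul_cancel, hMt1]
      exact ⟨_, hSMx hm, rfl⟩
    refine ht₀T' ?_
    have h2 := mul_mem (mul_mem ht h1) (inv_mem hs)
    simpa [mul_assoc] using h2
  set F := ⨆ t : T', U t with hF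
  set F' := F.map (t₀ : MulAut E).toMonoidHom with hF'
  have hF'eq : F' = ⨆ t : T', U ((t₀ : MulAut E) * t) := by
    rw [hF', hF, Subgroup.map_iSup]
    exact iSup_congr fun t => hUmul _ _
  have hc : F' ≤ Subgroup.centralizer (F : Set E) := by
    rw [Subgroup.le_centralizer_iff]
    refine iSup_le fun t => ?_
    rw [Subgroup.le_centralizer_iff, hF'eq]
    exact iSup_le fun s => hUc _ (mul_mem t₀.2 (hT'le s.2)) _ (hT'le t.2) (hdist t t.2 s s.2)
  have hsup : F ⊔ F' = ⊤ := by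
    rw [eq_top_iff, ← hXtop, hX, hF'eq]
    refine iSup_le fun t => ?_
    by_cases ht : (t : MulAut E) ∈ T'
    · exact le_sup_of_le_left (le_iSup (fun s : T' => U s) ⟨_, ht⟩)
    · refine le_sup_of_le_right ?_
      have hm : (t₀⁻¹ * t : T) ∈ Mx := by
        rw [Subgroup.mul_mem_iff_of_index_two hidx, inv_mem_iff]
        exact iff_of_false ht₀ fun hm => ht ⟨t, hm, rfl⟩
      have h1 := le_iSup (fun s : T' => U ((t₀ : MulAut E) * s)) ⟨_, Subgroup.mem_map_of_mem _ hm⟩
      simpa using h1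
  have hFnd : Nd F := nd_iSup T' hT'le
  have hinf : F ⊓ F' ≤ Zs h := le_trans (inf_le_inf_left _ hc) (inf_centralizer_le h hFnd)
  have hzF : z ∈ F := le_iSup (fun s : T' => U s) 1 (hzU _)
  have hFs : T' ≤ stab F := stab_iSup T' hT'le T' fun a ha t => ⟨⟨a, ha⟩ * t, (hUmul a t).le⟩
  have hMs : M ≤ stab F := stab_iSup T' hT'le M fun a ha t => ⟨t, hMU t (hT'le t.2) a ha⟩
  have hFlt : Nat.card F < Nat.card E := by
    refine card_lt_of_not_le h fun hle => hne ?_
    have h1 : (fix M₀).map (t₀ : MulAut E).toMonoidHom ≤ F' := by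
      refine Subgroup.map_mono (le_trans ?_ (le_iSup (fun s : T' => U s) 1))
      rw [Subgroup.coe_one, hU, hMt1]
    intro x hx
    have h2 := hle (hc (h1 ⟨x, hx, rfl⟩))
    refine h2.imp (fun h3 => ?_) fun h3 => ?_
    · exact (t₀ : MulAut E).injective (h3.trans (map_one _).symm)
    · exact (t₀ : MulAut E).injective (h3.trans (aut_z h _).symm)
  exact good_wreath h hzF T T' hT'le (hsub.symm ▸ hidx) t₀.2 ht₀T' hFs hF' hc hinf hsup
    (good_sub h hn hFnd hzF (by omega) (hT.to_le hT'le) hModd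
      (fun t ht => hMT t (hT'le ht)) hMs (inf_le_left.trans hfixM))

theorem claim : ∀ n, Claim.{u} n := by
  intro n
  induction n with
  | zero =>
    intro E _ _ z h T K hE
    exact absurd hE (Nat.not_le.2 Nat.card_pos)
  | succ n ih =>
    intro E _ _ z h T K hE hT hK hnorm hfix
    classical
    haveI : Finite (MulAut E) := Finite.of_injective _ DFunLike.coe_injective
    by_cases hsmall : ∀ x, x ∈ Zs h
    · have hmul : ∀ x y : E, (if x * y = 1 then (1 : Matrix Unit Unit ℂ) else -1) =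
          (if x = 1 then 1 else -1) * (if y = 1 then 1 else -1) := by
        intro x y
        rcases hsmall x with rfl | rfl <;> rcases hsmall y with rfl | rfl <;>
          simp [h.ne_one, h.mul_self]
      refine ⟨Unit, inferInstance, inferInstance,
        { toFun := fun x => if x = 1 then 1 else -1, map_one' := if_pos rfl, map_mul' := hmul },
        1, ⟨if_neg h.ne_one, ?_⟩, fun t e => ?_⟩
      · rw [Fintype.card_unit, one_pow, mul_one, ← card_Zs h,
          show Zs h = ⊤ from eq_top_iff.2 fun x _ => hsmall x, Subgroup.card_top]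
      · simp [aut_mem_Zs h (hsmall e)]
    have hKne : K ≠ ⊥ := fun hb => hsmall fun x => hfix fun a ha => by
      rw [hb, Subgroup.mem_bot] at ha
      rw [ha, MulAut.one_apply]
    obtain ⟨q, M, hq, hqodd, hMK, hMne, hMc, hMq, hMinv⟩ := exists_abelian K hK hKne
    have hModd : Odd (Nat.card M) := hK.of_dvd_nat (Subgroup.card_dvd_of_le hMK)
    have hMT : ∀ t ∈ T, ∀ a ∈ M, t * a * t⁻¹ ∈ M := fun t ht => hMinv t (hnorm t ht)
    have hMK' : ∀ t ∈ K, ∀ a ∈ M, t * a * t⁻¹ ∈ M := fun t ht =>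
      hMinv t fun k hk => mul_mem (mul_mem ht hk) (inv_mem ht)
    have hfaith : ∀ A : Subgroup (MulAut E), fix A = ⊤ → A = ⊥ := fun A hA =>
      (Subgroup.eq_bot_iff_forall _).2 fun a ha => MulEquiv.ext fun x =>
        ((hA ▸ Subgroup.mem_top x : x ∈ fix A) a ha)
    by_cases hfixM : fix M ≤ Zs h
    · by_cases hcand : ∃ M₀ ≤ M, M₀ ≠ ⊥ ∧ ¬ fix M₀ ≤ Zs h
      · obtain ⟨M₀, ⟨hM₀, hM₀b, hM₀ne⟩, hmax⟩ := Set.exists_max_image
          {N : Subgroup (MulAut E) | N ≤ M ∧ N ≠ ⊥ ∧ ¬ fix N ≤ Zs h} (fun N => Nat.card N)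
          (Set.toFinite _) hcand
        refine good_orbit h ih hE hT hModd hMc hMT hfixM hM₀ hM₀ne (fun ht => hM₀b (hfaith _ ht))
          fun N hN hlt => ?_
        by_contra hc
        refine not_le.2 hlt (hmax N ⟨hN, ?_, hc⟩)
        rintro rfl
        rw [Subgroup.card_bot] at hlt
        exact absurd hlt (Nat.not_lt.2 Nat.card_pos)
      · push Not at hcand
        haveI : Fact q.Prime := ⟨hq⟩
        obtain ⟨m, hm, hm1⟩ := (M.bot_or_exists_ne_one).resolve_left hMne
        have hMcyc : M ≤ Subgroup.zpowers m := by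
          intro a ha
          by_contra hna
          refine hsmall fun x => exists_fixed_of_two h hqodd (hMc a ha m hm) (hMq a ha) (hMq m hm)
            (fun g hg hg1 => hcand _ ?_ (by rwa [Ne, Subgroup.zpowers_eq_bot]))
            (fun k hk => hna ?_) hm1 x
          · exact Subgroup.zpowers_le.2 ((Subgroup.closure_le M).2 (by
              rintro _ (rfl | rfl) <;> assumption) hg)
          · rw [eq_inv_of_mul_eq_one_left hk]
            exact inv_mem (pow_mem (Subgroup.mem_zpowers m) k)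
        obtain ⟨d, R, hR⟩ := exists_gr h
        obtain ⟨τ, hτ⟩ := exists_pair_cyclic h hR hqodd (hMq m hm) hm1
          ((fix_anti hMcyc).trans hfixM) T hT fun t ht => hMcyc (hMT t ht m hm)
        exact ⟨Fin d, inferInstance, inferInstance, R, τ, hR, hτ⟩
    · have hstab : ∀ A : Subgroup (MulAut E), (∀ t ∈ A, ∀ a ∈ M, t * a * t⁻¹ ∈ M) →
          A ≤ stab (fix M) := fun A hA t ht => mem_stab_of_map_le fun x hx =>
        apply_mem_fix (fun a ha => by simpa using hA t⁻¹ (inv_mem ht) a ha) hx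
      refine good_split h ih hE (nd_fix h M hModd) (Zs_le_fix h _ (z_mem_Zs h)) hfixM (fun hle => ?_)
        hT (hstab T hMT) hK hnorm (hstab K hMK') (inf_le_left.trans hfix) hModd hMT
        (hstab M fun t ht a ha => mul_mem (mul_mem ht ha) (inv_mem ht))
        (inf_centralizer_le h (nd_fix h M hModd))
      refine hMne (hfaith M (eq_top_iff.2 ?_))
      exact (sup_centralizer (nd_fix h M hModd)).ge.trans
        (sup_le le_rfl (hle.trans (Zs_le_fix h M)))

end CfsgLib.CharDeep.ExtraExtend
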