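import Cfsg.Agent.Lib.CharDeep.ExtraExtend.Sym
import Cfsg.Agent.Lib.CharDeep.IrrTools
import Cfsg.Agent.Lib.Char.Induced
import Mathlib.LinearAlgebra.Matrix.ToLin
import Mathlib.LinearAlgebra.Matrix.Kronecker

/-!
# The faithful representation of a group of extraspecial type

A matrix representation `R` with `R z = -1` and `2 * dim ^ 2` equal to the order is irreducible,
and every automorphism has an intertwiner, whose trace has absolute value one when the
automorphism is fixed-point-free modulo `{1, z}`.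
-/

namespace CfsgLib.CharDeep.ExtraExtend

open Matrix

variable {E : Type*} [Group E] [Finite E] {z : E} {ι : Type} [Fintype ι] [DecidableEq ι]

/-- A faithful irreducible matrix representation. -/
structure GR (z : E) (R : E →* Matrix ι ι ℂ) : Prop where
  map_z : R z = -1
  card : 2 * Fintype.card ι ^ 2 = Nat.card E

/-- A matrix representation as a representation. -/
noncomputable def toRep {G : Type*} [Group G] (R : G →* Matrix ι ι ℂ) :
    Representation ℂ G (ι → ℂ) :=
  (Matrix.toLinAlgEquiv' : Matrix ι ι ℂ ≃ₐ[ℂ] _).toMonoidHom.comp R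

omit [Finite E] in
theorem toRep_character {G : Type*} [Group G] (R : G →* Matrix ι ι ℂ) (g : G) :
    (toRep R).character g = trace (R g) :=
  Matrix.trace_toLin'_eq (R g)

variable {R : E →* Matrix ι ι ℂ} (h : Sp z)

include h in
omit [Finite E] in
/-- Traces vanish off `{1, z}`. -/
theorem trace_eq_zero (hz : R z = -1) {x : E} (hx : x ∉ Zs h) : trace (R x) = 0 := by
  have hy : ∃ y, x * y ≠ y * x := by
    by_contra hc
    push Not at hc
    exact hx (center_mem h hc)
  obtain ⟨y, hy⟩ := hy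
  have h1 := (h.comm x y).resolve_left hy
  have h2 : R x = R y * (-R x) * R y⁻¹ := by
    have e : x = y * (x * z) * y⁻¹ := by
      rw [eq_mul_inv_iff_mul_eq, h1, mul_assoc]
    conv_lhs => rw [e]
    rw [map_mul, map_mul, map_mul, hz, mul_neg, mul_one]
  have h3 := congrArg trace h2
  rw [trace_mul_comm (R y * -R x), ← mul_assoc, ← map_mul, inv_mul_cancel, map_one, one_mul,
    trace_neg] at h3
  exact self_eq_neg.1 h3

open Classical in
omit [Finite E] in
include h in
theorem GR.trace_mul_eq (hR : GR z R) (x : E) :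
    trace (R x) = if x = 1 then (Fintype.card ι : ℂ) else
      if x = z then -(Fintype.card ι : ℂ) else 0 := by
  split_ifs with h1 h2
  · rw [h1, map_one, trace_one]
  · rw [h2, hR.map_z, trace_neg, trace_one]
  · exact trace_eq_zero h hR.map_z fun hc => hc.elim h1 h2

theorem GR.card_pos (hR : GR z R) :
    0 < Fintype.card ι := by
  refine Nat.pos_of_ne_zero fun h0 => ?_
  have := hR.card
  rw [h0] at this
  exact Nat.card_pos.ne' (by simpa using this.symm)

include h in
theorem GR.norm_one [Fintype E] (hR : GR z R) :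
    Cfsg.classInner (toRep R).character (toRep R).character = 1 := by
  classical
  have hd : (Fintype.card ι : ℂ) ≠ 0 := Nat.cast_ne_zero.2 hR.card_pos.ne'
  have hsum : ∑ g : E, (toRep R).character g * (starRingEnd ℂ) ((toRep R).character g) =
      2 * (Fintype.card ι : ℂ) ^ 2 := by
    rw [← Finset.sum_subset (Finset.subset_univ ({1, z} : Finset E)) fun g _ hg => by
      simp only [Finset.mem_insert, Finset.mem_singleton, not_or] at hg
      rw [toRep_character, hR.trace_mul_eq h, if_neg hg.1, if_neg hg.2, zero_mul]]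
    rw [Finset.sum_pair h.ne_one.symm]
    simp only [toRep_character, hR.trace_mul_eq h, h.ne_one, if_false, if_true]
    simp only [map_neg, map_natCast]
    ring
  rw [Cfsg.classInner, hsum, ← hR.card]
  push_cast
  field_simp

include h in
theorem GR.irreducible (hR : GR z R) : (toRep R).IsIrreducible := by
  cases nonempty_fintype E
  obtain ⟨n, σ, hσ, he⟩ := CfsgLib.Char.IsCharacter.isIrrCharacter_of_norm_one
    (CfsgLib.Char.isCharacter_of_rep (toRep R)) (hR.norm_one h)
  have := hσ
  obtain ⟨φ⟩ := IrrTools.nonempty_equiv_of_character_eq σ (toRep R) he.symm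
  have := hσ
  exact CfsgLib.Char.isIrreducible_of_equiv φ

include h in
/-- Schur's lemma. -/
theorem GR.schur (hR : GR z R) {T : Matrix ι ι ℂ} (hT : ∀ e, T * R e = R e * T) :
    ∃ c : ℂ, T = c • 1 := by
  have := hR.irreducible h
  obtain ⟨c, hc⟩ := IrrTools.exists_smul_of_commute (toRep R) (Matrix.toLinAlgEquiv' T) fun e => by
    show _ * Matrix.toLinAlgEquiv' (R e) = Matrix.toLinAlgEquiv' (R e) * _
    rw [← map_mul, ← map_mul, hT]
  refine ⟨c, (Matrix.toLinAlgEquiv' : Matrix ι ι ℂ ≃ₐ[ℂ] _).injective ?_⟩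
  rw [hc, map_smul, map_one]

/-- `A` intertwines `R` and its twist by `a`. -/
def Tw (R : E →* Matrix ι ι ℂ) (a : MulAut E) (A : Matrix ι ι ℂ) : Prop :=
  ∀ e, A * R e = R (a e) * A

omit [Finite E] in
theorem Tw.one : Tw R 1 1 := fun e => by simp

omit [Finite E] in
theorem Tw.mul {a b : MulAut E} {A B : Matrix ι ι ℂ} (hA : Tw R a A) (hB : Tw R b B) :
    Tw R (a * b) (A * B) := fun e => by
  rw [mul_assoc, hB, ← mul_assoc, hA, mul_assoc, MulAut.mul_apply]

omit [Finite E] in
theorem Tw.pow {a : MulAut E} {A : Matrix ι ι ℂ} (hA : Tw R a A) : ∀ n : ℕ, Tw R (a ^ n) (A ^ n)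
  | 0 => by simpa using Tw.one
  | n + 1 => by rw [pow_succ, pow_succ]; exact (Tw.pow hA n).mul hA

omit [Finite E] in
theorem Tw.smul {a : MulAut E} {A : Matrix ι ι ℂ} (hA : Tw R a A) (c : ℂ) : Tw R a (c • A) :=
  fun e => by rw [smul_mul_assoc, hA, mul_smul_comm]

omit [Finite E] in
theorem Tw.inv {a : MulAut E} {A : (Matrix ι ι ℂ)ˣ} (hA : Tw R a A) :
    Tw R a⁻¹ (A⁻¹ : (Matrix ι ι ℂ)ˣ) := fun e => by
  have h1 := hA (a⁻¹ e)
  rw [show a (a⁻¹ e) = e from a.apply_symm_apply e] at h1
  rw [Units.inv_mul_eq_iff_eq_mul, ← mul_assoc, h1, mul_assoc, Units.mul_inv, mul_one]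

include h in
theorem GR.unique (hR : GR z R) {a : MulAut E} {A : (Matrix ι ι ℂ)ˣ} {B : Matrix ι ι ℂ}
    (hA : Tw R a A) (hB : Tw R a B) : ∃ c : ℂ, B = c • (A : Matrix ι ι ℂ) := by
  have h1 : Tw R 1 ((↑(A⁻¹) : Matrix ι ι ℂ) * B) := by
    have h2 := hA.inv.mul hB
    rwa [inv_mul_cancel] at h2
  obtain ⟨c, hc⟩ := hR.schur h fun e => (h1 e).trans (by rw [MulAut.one_apply])
  refine ⟨c, ?_⟩
  rw [Units.inv_mul_eq_iff_eq_mul, mul_smul_comm, mul_one] at hc
  exact hc

include h in
theorem GR.exists_tw (hR : GR z R) (a : MulAut E) : ∃ A : (Matrix ι ι ℂ)ˣ, Tw R a A := by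
  have := hR.irreducible h
  have hchar : (toRep (R.comp a.toMonoidHom)).character = (toRep R).character := funext fun x => by
    rw [toRep_character, toRep_character, MonoidHom.comp_apply, hR.trace_mul_eq h,
      hR.trace_mul_eq h]
    classical
    show (if a x = 1 then _ else if a x = z then _ else _) = _
    simp only [show (a x = 1) = (x = 1) from propext (by simp),
      show (a x = z) = (x = z) from propext ⟨fun hx => a.injective (by rw [hx, aut_z h]),
        fun hx => by rw [hx, aut_z h]⟩]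
  obtain ⟨φ⟩ := IrrTools.nonempty_equiv_of_character_eq (toRep R) _ hchar
  set A : Matrix ι ι ℂ := LinearMap.toMatrix' φ.toLinearEquiv.toLinearMap
  have hA : IsUnit A := by
    refine IsUnit.of_mul_eq_one (LinearMap.toMatrix' φ.toLinearEquiv.symm.toLinearMap) ?_
    rw [← LinearMap.toMatrix'_comp, LinearEquiv.comp_symm, LinearMap.toMatrix'_id]
  refine ⟨hA.unit, fun e => ?_⟩
  rw [IsUnit.unit_spec]
  refine Matrix.toLin'.injective ?_
  rw [Matrix.toLin'_mul, Matrix.toLin'_mul, Matrix.toLin'_toMatrix']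
  exact φ.toIntertwiningMap.isIntertwining' e

include h in
/-- An intertwiner of an automorphism without fixed points modulo `{1, z}` has trace norm one. -/
theorem GR.trace_mul_trace_inv (hR : GR z R) {a : MulAut E} {A : (Matrix ι ι ℂ)ˣ}
    (hA : Tw R a A) (hfix : ∀ e, e * (a e)⁻¹ ∈ Zs h → e ∈ Zs h) :
    trace (A : Matrix ι ι ℂ) * trace ((A⁻¹ : (Matrix ι ι ℂ)ˣ) : Matrix ι ι ℂ) = 1 := by
  classical
  cases nonempty_fintype E
  set S : Matrix ι ι ℂ := ∑ e : E, R e * (A : Matrix ι ι ℂ) * R e⁻¹ with hS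
  have hcomm : ∀ g, S * R g = R g * S := fun g => by
    rw [hS, Finset.sum_mul, Finset.mul_sum]
    refine Fintype.sum_equiv (Equiv.mulLeft g⁻¹) _ _ fun e => ?_
    simp only [Equiv.coe_mulLeft, _root_.mul_inv_rev, inv_inv, map_mul]
    simp only [← mul_assoc, ← map_mul, mul_inv_cancel, one_mul]
    simp only [mul_assoc, ← map_mul]
  obtain ⟨c, hc⟩ := hR.schur h hcomm
  have hd : (Fintype.card ι : ℂ) ≠ 0 := Nat.cast_ne_zero.2 hR.card_pos.ne'
  have hcval : c = 2 * Fintype.card ι * trace (A : Matrix ι ι ℂ) := by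
    have h1 := congrArg trace hc
    rw [hS, trace_sum, trace_smul, trace_one, smul_eq_mul] at h1
    rw [Finset.sum_congr rfl fun e _ => show trace (R e * (A : Matrix ι ι ℂ) * R e⁻¹) = trace (A : Matrix ι ι ℂ) by
      rw [trace_mul_comm (R e * (A : Matrix ι ι ℂ)), ← mul_assoc, ← map_mul, inv_mul_cancel, map_one, one_mul],
      Finset.sum_const, Finset.card_univ, ← Nat.card_eq_fintype_card, ← hR.card, nsmul_eq_mul] at h1
    refine mul_right_cancel₀ hd (h1.symm.trans ?_)
    push_cast
    ring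
  have h2 := congrArg (fun X : Matrix ι ι ℂ => trace (X * ((A⁻¹ : (Matrix ι ι ℂ)ˣ) : Matrix ι ι ℂ))) hc
  simp only [hS, Finset.sum_mul, trace_sum, smul_mul_assoc, one_mul, trace_smul, smul_eq_mul] at h2
  have h3 : ∀ e : E, trace (R e * (A : Matrix ι ι ℂ) * R e⁻¹ * ((A⁻¹ : (Matrix ι ι ℂ)ˣ) : Matrix ι ι ℂ)) =
      trace (R (e * (a e)⁻¹)) := fun e => by
    rw [mul_assoc (R e), hA, map_mul, ← map_inv a, ← mul_assoc, mul_assoc (R e * R (a e⁻¹)),
      Units.mul_inv, mul_one]
  rw [Finset.sum_congr rfl fun e _ => h3 e,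
    ← Finset.sum_subset (Finset.subset_univ ({1, z} : Finset E)) fun e _ he => by
      simp only [Finset.mem_insert, Finset.mem_singleton, not_or] at he
      exact trace_eq_zero h hR.map_z fun hc' => (hfix e hc').elim he.1 he.2,
    Finset.sum_pair h.ne_one.symm, aut_z h, map_one, inv_one, mul_one, mul_inv_cancel, map_one,
    trace_one, hcval] at h2
  refine mul_left_cancel₀ (mul_ne_zero two_ne_zero hd) ?_
  rw [mul_one, ← mul_assoc]
  linear_combination -h2

end CfsgLib.CharDeep.ExtraExtend
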