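import Mathlib.GroupTheory.PGroup
import Mathlib.GroupTheory.Subgroup.Centralizer
import Mathlib.GroupTheory.QuotientGroup.Basic
import Mathlib.Algebra.BigOperators.GroupWithZero.Finset
import Mathlib.Data.Fintype.BigOperators
import Mathlib.Algebra.Ring.Parity
import Mathlib.Data.ZMod.Basic
import Mathlib.Algebra.Field.ZMod

/-!
# Groups of extraspecial type under automorphisms of odd order

Elementary facts on a group with centre `{1, z}` in which commutators and squares lie in
`{1, z}`: the fixed subgroup of a group of odd order is supplemented by its centralizer.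
-/

namespace CfsgLib.CharDeep.ExtraExtend

variable {E : Type*} [Group E]

/-- Centre `{1, z}`, commutators and squares in the centre. -/
structure Sp (z : E) : Prop where
  ne_one : z ≠ 1
  mul_self : z * z = 1
  central : ∀ x, z * x = x * z
  comm : ∀ x y : E, x * y = y * x ∨ x * y = y * x * z
  sq : ∀ x : E, x * x = 1 ∨ x * x = z
  center : ∀ x : E, (∀ y, x * y = y * x) → x = 1 ∨ x = z

/-- The subgroup `{1, z}`. -/
def Zs {z : E} (h : Sp z) : Subgroup E where
  carrier := {x | x = 1 ∨ x = z}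
  one_mem' := Or.inl rfl
  mul_mem' := by
    rintro a b (rfl | rfl) (rfl | rfl) <;> simp [h.mul_self]
  inv_mem' := by
    rintro a (rfl | rfl)
    · simp
    · exact Or.inr (inv_eq_of_mul_eq_one_right h.mul_self)

variable {z : E} (h : Sp z)

theorem mem_Zs {x : E} : x ∈ Zs h ↔ x = 1 ∨ x = z := Iff.rfl

theorem z_mem_Zs : z ∈ Zs h := Or.inr rfl

theorem card_Zs : Nat.card (Zs h) = 2 := by
  have : ((Zs h : Subgroup E) : Set E) = {1, z} := by ext x; simp [mem_Zs]
  rw [← SetLike.coe_sort_coe, this, Nat.card_coe_set_eq, Set.ncard_pair h.ne_one.symm]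

theorem Zs_central {x : E} (hx : x ∈ Zs h) (y : E) : x * y = y * x := by
  rcases hx with rfl | rfl
  · simp
  · exact h.central y

theorem center_mem {x : E} (hx : ∀ y, x * y = y * x) : x ∈ Zs h := h.center x hx

theorem Zs_normal : (Zs h).Normal := ⟨fun n hn g => by
  rwa [← Zs_central h hn g, mul_inv_cancel_right]⟩

include h in
theorem aut_z (a : MulAut E) : a z = z := by
  have hc : a z ∈ Zs h := center_mem h fun y => by
    rw [← a.apply_symm_apply y, ← map_mul, ← map_mul, h.central]
  rcases hc with h1 | h1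
  · exact absurd (a.injective (h1.trans (map_one a).symm)) h.ne_one
  · exact h1

theorem aut_mem_Zs {a : MulAut E} {x : E} (hx : x ∈ Zs h) : a x = x := by
  rcases hx with rfl | rfl
  · exact map_one a
  · exact aut_z h a

/-- The subgroup of common fixed points. -/
def fix (A : Subgroup (MulAut E)) : Subgroup E where
  carrier := {x | ∀ a ∈ A, a x = x}
  one_mem' := fun a _ => map_one a
  mul_mem' := fun hx hy a ha => by rw [map_mul, hx a ha, hy a ha]
  inv_mem' := fun hx a ha => by rw [map_inv, hx a ha]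

theorem mem_fix {A : Subgroup (MulAut E)} {x : E} : x ∈ fix A ↔ ∀ a ∈ A, a x = x := Iff.rfl

theorem Zs_le_fix (A : Subgroup (MulAut E)) : Zs h ≤ fix A := fun _ hx _ _ => aut_mem_Zs h hx

theorem fix_anti {A B : Subgroup (MulAut E)} (hAB : A ≤ B) : fix B ≤ fix A :=
  fun _ hx a ha => hx a (hAB ha)

theorem fix_sup (A B : Subgroup (MulAut E)) : fix (A ⊔ B) = fix A ⊓ fix B := by
  refine le_antisymm (le_inf (fix_anti le_sup_left) (fix_anti le_sup_right)) fun x hx a ha => ?_
  have : A ⊔ B ≤ MulAction.stabilizer (MulAut E) x := sup_le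
    (fun b hb => hx.1 b hb) (fun b hb => hx.2 b hb)
  exact this ha

theorem map_fix {A : Subgroup (MulAut E)} (t : MulAut E) :
    (fix A).map t.toMonoidHom = fix (A.map (MulAut.conj t).toMonoidHom) := by
  ext x
  constructor
  · rintro ⟨y, hy, rfl⟩ b ⟨a, ha, rfl⟩
    simp [hy a ha]
  · intro hx
    refine ⟨t.symm x, fun a ha => ?_, t.apply_symm_apply x⟩
    have h1 := hx _ ⟨a, ha, rfl⟩
    simp at h1
    exact t.injective (by rw [h1]; exact (t.apply_symm_apply x).symm)

theorem apply_mem_fix {A : Subgroup (MulAut E)} {t : MulAut E}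
    (ht : ∀ a ∈ A, t⁻¹ * a * t ∈ A) {x : E} (hx : x ∈ fix A) : t x ∈ fix A := fun a ha => by
  have h1 := hx _ (ht a ha)
  simp at h1
  exact t.symm.injective (by rw [h1]; exact (t.symm_apply_apply x).symm)

/-- A fixed element commutes with every `a x * x⁻¹`. -/
theorem fix_commute {a : MulAut E} {e : E} (he : a e = e) (x : E) (hsp : Sp z) :
    e * (a x * x⁻¹) = (a x * x⁻¹) * e := by
  rcases hsp.comm e x with h1 | h1
  · have h2 := congrArg a h1
    rw [map_mul, map_mul, he] at h2
    have h3 : e * x⁻¹ = x⁻¹ * e := (Commute.inv_right (show Commute e x from h1)).eq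
    rw [← mul_assoc, h2, mul_assoc, h3, mul_assoc]
  · have h2 := congrArg a h1
    rw [map_mul, map_mul, map_mul, he, aut_z hsp] at h2
    have h3 : z * x⁻¹ = x⁻¹ * z := hsp.central _
    have h4 : e * x⁻¹ = x⁻¹ * e * z := by
      have h5 : x * (e * x⁻¹) = x * (x⁻¹ * e * z) := by
        have h6 : x * e = e * x * z := by rw [h1, mul_assoc, hsp.mul_self, mul_one]
        rw [← mul_assoc, h6, mul_assoc, h3, mul_assoc, ← mul_assoc x, mul_inv_cancel, one_mul,
          ← mul_assoc x, ← mul_assoc x, mul_inv_cancel, one_mul]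
      exact mul_left_cancel h5
    calc e * (a x * x⁻¹) = a x * e * z * x⁻¹ := by rw [← mul_assoc, h2]
      _ = a x * (e * x⁻¹) * z := by rw [mul_assoc, h3, mul_assoc (a x), mul_assoc (a x), mul_assoc e]
      _ = a x * x⁻¹ * e * (z * z) := by rw [h4]; simp only [mul_assoc]
      _ = a x * x⁻¹ * e := by rw [hsp.mul_self, mul_one]

/-- The quotient by `{1, z}`, with its projection. -/
instance : (Zs h).Normal := Zs_normal h

theorem quot_comm (a b : E ⧸ Zs h) : a * b = b * a := by
  induction a using QuotientGroup.induction_on with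
  | H x =>
  induction b using QuotientGroup.induction_on with
  | H y =>
  rcases h.comm x y with h1 | h1
  · rw [← QuotientGroup.mk_mul, h1, QuotientGroup.mk_mul]
  · rw [← QuotientGroup.mk_mul, h1, QuotientGroup.mk_mul, QuotientGroup.mk_mul,
      (QuotientGroup.eq_one_iff z).2 (z_mem_Zs h), mul_one]

/-- The commutative group structure of the quotient. -/
@[reducible] def quotComm : CommGroup (E ⧸ Zs h) :=
  { (inferInstance : Group (E ⧸ Zs h)) with mul_comm := quot_comm h }

theorem quot_sq (a : E ⧸ Zs h) : a * a = 1 := by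
  induction a using QuotientGroup.induction_on with
  | H x => exact (QuotientGroup.eq_one_iff _).2 (h.sq x)

theorem quot_pow_odd (a : E ⧸ Zs h) {n : ℕ} (hn : Odd n) : a ^ n = a := by
  obtain ⟨k, rfl⟩ := hn
  rw [pow_succ, pow_mul, sq, quot_sq, one_pow, one_mul]

include h in
/-- An element fixed modulo `{1, z}` by an automorphism of odd order is fixed. -/
theorem fixed_of_quot {a : MulAut E} (ha : Odd (orderOf a)) {y : E}
    (hy : (QuotientGroup.mk (a y) : E ⧸ Zs h) = QuotientGroup.mk y) : a y = y := by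
  set u := y⁻¹ * a y with hudef
  have hu : u ∈ Zs h := QuotientGroup.eq.1 hy.symm
  have hay : a y = y * u := (mul_inv_cancel_left _ _).symm
  have key : ∀ n : ℕ, (a ^ n) y = y * u ^ n := by
    intro n
    induction n with
    | zero => simp
    | succ n ih =>
      rw [pow_succ', MulAut.mul_apply, ih, map_mul, map_pow, aut_mem_Zs h hu, hay, pow_succ',
        mul_assoc]
  have h2 := key (orderOf a)
  rw [pow_orderOf_eq_one, MulAut.one_apply, left_eq_mul] at h2
  rcases hu with hu | hu
  · rw [hay, hu, mul_one]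
  · exfalso
    obtain ⟨k, hk⟩ := ha
    rw [hk, hu, pow_succ, pow_mul, sq, h.mul_self, one_pow, one_mul] at h2
    exact h.ne_one h2

section Averaging

attribute [local instance] quotComm

/-- A lift of a product of images of a point, compatible with every automorphism. -/
theorem exists_lift_prod {ι : Type*} [Fintype ι] (φ : ι → MulAut E) (x : E) :
    ∃ y : E, (∀ X : Subgroup E, (∀ i, φ i x ∈ X) → y ∈ X) ∧ ∀ a : MulAut E,
      (QuotientGroup.mk (a y) : E ⧸ Zs h) = ∏ i, QuotientGroup.mk ((a * φ i) x) := by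
  refine ⟨((Finset.univ : Finset ι).toList.map fun i => φ i x).prod, fun X hX =>
    X.list_prod_mem fun u hu => by
      obtain ⟨i, -, rfl⟩ := List.mem_map.1 hu
      exact hX i, fun a => ?_⟩
  show (QuotientGroup.mk' (Zs h)).comp a.toMonoidHom _ = _
  rw [map_list_prod, List.map_map, Finset.prod_map_toList]
  rfl

include h in
/-- Decomposition of a point along the fixed subgroup of a group of odd order. -/
theorem exists_decomp [Finite E] (A : Subgroup (MulAut E)) (hA : Odd (Nat.card A))
    (X : Subgroup E) (hX : ∀ a ∈ A, ∀ x ∈ X, a x ∈ X) {x : E} (hx : x ∈ X) :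
    ∃ y ∈ fix A, y ∈ X ∧ y⁻¹ * x ∈ Subgroup.centralizer (fix A : Set E) := by
  classical
  have : Finite (MulAut E) := Finite.of_injective _ DFunLike.coe_injective
  have : Fintype A := Fintype.ofFinite A
  obtain ⟨y, hyX, hy⟩ := exists_lift_prod h (fun a : A => (a : MulAut E)) x
  have hfix : y ∈ fix A := by
    intro b hb
    refine fixed_of_quot h (hA.of_dvd_nat ?_) ?_
    · simpa using orderOf_dvd_natCard (⟨b, hb⟩ : A)
    · rw [hy, ← MulAut.one_apply (M := E) y, hy]
      simp only [one_mul]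
      exact (Equiv.prod_comp (Equiv.mulLeft (⟨b, hb⟩ : A))
        (fun a : A => (QuotientGroup.mk ((a : MulAut E) x) : E ⧸ Zs h)))
  refine ⟨y, hfix, hyX X fun a => hX a a.2 x hx, ?_⟩
  let l := (Finset.univ : Finset A).toList
  set u := (l.map fun a : A => (a : MulAut E) x * x⁻¹).prod with hudef
  have hu1 : u ∈ Subgroup.centralizer (fix A : Set E) :=
    Subgroup.list_prod_mem _ fun v hv => by
      obtain ⟨a, -, rfl⟩ := List.mem_map.1 hv
      exact Subgroup.mem_centralizer_iff.2 fun e he => fix_commute (he a a.2) x h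
  have hu2 : (QuotientGroup.mk u : E ⧸ Zs h) =
      ∏ a : A, (QuotientGroup.mk ((a : MulAut E) x * x⁻¹) : E ⧸ Zs h) := by
    show QuotientGroup.mk' (Zs h) u = _
    rw [hudef, map_list_prod, List.map_map, Finset.prod_map_toList]
    rfl
  have h1 := hy 1
  simp only [one_mul, MulAut.one_apply] at h1
  have h2 : (QuotientGroup.mk (y⁻¹ * x) : E ⧸ Zs h) = (QuotientGroup.mk u)⁻¹ := by
    rw [QuotientGroup.mk_mul, QuotientGroup.mk_inv, h1, hu2]
    have h3 : ∏ a : A, (QuotientGroup.mk ((a : MulAut E) x * x⁻¹) : E ⧸ Zs h) =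
        (∏ a : A, (QuotientGroup.mk ((a : MulAut E) x) : E ⧸ Zs h)) * (QuotientGroup.mk x)⁻¹ := by
      simp only [QuotientGroup.mk_mul, QuotientGroup.mk_inv, Finset.prod_mul_distrib,
        Finset.prod_inv_distrib, Finset.prod_const, Finset.card_univ]
      rw [quot_pow_odd h _ (by rw [← Nat.card_eq_fintype_card]; exact hA)]
    rw [h3, mul_inv_rev, inv_inv, mul_comm]
  rw [← QuotientGroup.mk_inv, QuotientGroup.eq] at h2
  have h4 : y⁻¹ * x = u⁻¹ * ((y⁻¹ * x)⁻¹ * u⁻¹)⁻¹ := by group
  rw [h4]
  refine Subgroup.mul_mem _ (Subgroup.inv_mem _ hu1) (Subgroup.inv_mem _ ?_)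
  exact Subgroup.mem_centralizer_iff.2 fun e _ => (Zs_central h h2 e).symm

include h in
/-- Two commuting automorphisms of prime odd order generate a cyclic group if they act without
fixed points modulo `{1, z}`. -/
theorem exists_fixed_of_two [Finite E] {q : ℕ} [hq : Fact q.Prime] (hodd : Odd q) {a b : MulAut E}
    (hab : a * b = b * a) (ha : a ^ q = 1) (hb : b ^ q = 1)
    (hfpf : ∀ g ∈ Subgroup.closure ({a, b} : Set (MulAut E)), g ≠ 1 →
      fix (Subgroup.zpowers g) ≤ Zs h)
    (hlines : ∀ k : ℕ, a * b ^ k ≠ 1) (hb1 : b ≠ 1) (x : E) : x ∈ Zs h := by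
  classical
  have hq0 : q ≠ 0 := hq.out.ne_zero
  have : NeZero q := ⟨hq0⟩
  have hpow : ∀ (g : MulAut E), g ^ q = 1 → ∀ m : ℕ, g ^ m = g ^ (m % q) := fun g hg m =>
    pow_eq_pow_mod m hg
  have hnorm : ∀ g : MulAut E, g ^ q = 1 → fix (Subgroup.zpowers g) ≤ Zs h → ∀ w : E,
      ∏ i : ZMod q, (QuotientGroup.mk ((g ^ i.val) w) : E ⧸ Zs h) = 1 := by
    intro g hg hf w
    obtain ⟨y, -, hy⟩ := exists_lift_prod h (fun i : ZMod q => g ^ i.val) w
    have h1 := hy 1
    simp only [one_mul, MulAut.one_apply] at h1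
    rw [← h1, QuotientGroup.eq_one_iff]
    refine hf fun c hc => ?_
    have hgy : g y = y := by
      refine fixed_of_quot h (hodd.of_dvd_nat (orderOf_dvd_of_pow_eq_one hg)) ?_
      rw [hy, h1]
      refine Fintype.prod_equiv (Equiv.addRight (1 : ZMod q)) _ _ fun i => ?_
      rw [Equiv.coe_addRight, ← pow_succ', hpow g hg (i.val + 1), ZMod.val_add,
        hpow g hg ((i.val + _) % q), Nat.mod_mod, ZMod.val_one]
    have : Subgroup.zpowers g ≤ MulAction.stabilizer (MulAut E) y :=
      Subgroup.zpowers_le.2 hgy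
    exact this hc
  have hmem : ∀ k : ℕ, a * b ^ k ∈ Subgroup.closure ({a, b} : Set (MulAut E)) := fun k =>
    mul_mem (Subgroup.subset_closure (by simp)) (pow_mem (Subgroup.subset_closure (by simp)) k)
  have hcomm : Commute a b := hab
  have hline : ∀ k : ZMod q, ∏ i : ZMod q,
      (QuotientGroup.mk ((a ^ i.val * b ^ (k.val * i.val)) x) : E ⧸ Zs h) = 1 := by
    intro k
    have hk : (a * b ^ k.val) ^ q = 1 := by
      rw [(hcomm.pow_right _).mul_pow, ha, ← pow_mul, mul_comm, pow_mul, hb, one_pow, one_mul]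
    rw [← hnorm _ hk (hfpf _ (hmem _) (hlines _)) x]
    refine Finset.prod_congr rfl fun i _ => ?_
    rw [(hcomm.pow_right _).mul_pow, ← pow_mul]
  have htot : ∏ k : ZMod q, ∏ i : ZMod q,
      (QuotientGroup.mk ((a ^ i.val * b ^ (k.val * i.val)) x) : E ⧸ Zs h) = 1 :=
    Finset.prod_eq_one fun k _ => hline k
  rw [Finset.prod_comm, Finset.prod_eq_single (0 : ZMod q)] at htot
  · simp only [ZMod.val_zero, Nat.mul_zero, pow_zero, one_mul, MulAut.one_apply,
      Finset.prod_const, Finset.card_univ, ZMod.card] at htot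
    rw [quot_pow_odd h _ hodd] at htot
    exact (QuotientGroup.eq_one_iff x).1 htot
  · intro i _ hi
    obtain ⟨y, -, hy⟩ := exists_lift_prod h (fun j : ZMod q => b ^ j.val) x
    have h1 := hy (a ^ i.val)
    have h2 := hy 1
    simp only [one_mul, MulAut.one_apply] at h2
    have hy1 : (QuotientGroup.mk y : E ⧸ Zs h) = 1 := by
      rw [h2]
      exact hnorm b hb (hfpf b (Subgroup.subset_closure (by simp)) hb1) x
    have h3 : (QuotientGroup.mk ((a ^ i.val) y) : E ⧸ Zs h) = 1 := by
      rw [QuotientGroup.eq_one_iff] at hy1 ⊢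
      rwa [aut_mem_Zs h hy1]
    rw [h1] at h3
    rw [← h3]
    refine Fintype.prod_equiv (Equiv.mulRight₀ i hi) _ _ fun k => ?_
    rw [show Equiv.mulRight₀ i hi k = k * i from rfl, ZMod.val_mul, ← hpow b hb]
  · simp

end Averaging

/-- `X` is supplemented by its centralizer. -/
def Nd (X : Subgroup E) : Prop := ∀ x : E, ∃ u ∈ X, u⁻¹ * x ∈ Subgroup.centralizer (X : Set E)

theorem nd_bot : Nd (⊥ : Subgroup E) := fun x =>
  ⟨1, one_mem _, Subgroup.mem_centralizer_iff.2 fun e he => by
    rw [Subgroup.coe_bot, Set.mem_singleton_iff] at he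
    simp [he]⟩

theorem nd_sup {U W : Subgroup E} (hU : Nd U) (hW : Nd W)
    (hc : W ≤ Subgroup.centralizer (U : Set E)) : Nd (U ⊔ W) := by
  intro x
  obtain ⟨u, hu, hr⟩ := hU x
  obtain ⟨w, hw, hr'⟩ := hW (u⁻¹ * x)
  refine ⟨u * w, Subgroup.mul_mem_sup hu hw, ?_⟩
  have hs : w⁻¹ * (u⁻¹ * x) ∈ Subgroup.centralizer (U : Set E) :=
    mul_mem (inv_mem (hc hw)) hr
  rw [mul_inv_rev, mul_assoc]
  exact Subgroup.le_centralizer_iff.1 (sup_le (Subgroup.le_centralizer_iff.1
    (Subgroup.zpowers_le.2 hs)) (Subgroup.le_centralizer_iff.1 (Subgroup.zpowers_le.2 hr')))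
    (Subgroup.mem_zpowers _)

theorem nd_finset_sup {ι : Type*} (U : ι → Subgroup E) (hU : ∀ i, Nd (U i))
    (hc : ∀ i j, U i ≠ U j → U i ≤ Subgroup.centralizer (U j : Set E)) (s : Finset ι) :
    Nd (s.sup U) := by
  classical
  induction s using Finset.induction_on with
  | empty => rw [Finset.sup_empty]; exact nd_bot
  | insert i s _ ih =>
    rw [Finset.sup_insert]
    by_cases hmem : ∃ j ∈ s, U i = U j
    · obtain ⟨j, hj, he⟩ := hmem
      rwa [sup_eq_right.2 (he ▸ Finset.le_sup (f := U) hj)]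
    · push Not at hmem
      exact nd_sup (hU i) ih (Finset.sup_le fun j hj => hc j i (hmem j hj).symm)

include h in
theorem inf_centralizer_le {X : Subgroup E} (hX : Nd X) :
    X ⊓ Subgroup.centralizer (X : Set E) ≤ Zs h := by
  intro x hx
  refine center_mem h fun y => ?_
  obtain ⟨u, hu, hr⟩ := hX y
  have h1 : Commute x u := ((Subgroup.mem_centralizer_iff.1 hx.2) u hu).symm
  have h2 : Commute x (u⁻¹ * y) := (Subgroup.mem_centralizer_iff.1 hr) x hx.1
  simpa using (h1.mul_right h2).eq

include h in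
theorem sp_of_nd {X : Subgroup E} (hX : Nd X) (hzX : z ∈ X) :
    Sp (⟨z, hzX⟩ : X) where
  ne_one := fun e => h.ne_one (congrArg Subtype.val e)
  mul_self := Subtype.ext h.mul_self
  central := fun x => Subtype.ext (h.central x)
  comm := fun x y => (h.comm x y).imp Subtype.ext Subtype.ext
  sq := fun x => (h.sq x).imp Subtype.ext Subtype.ext
  center := fun x hx => (inf_centralizer_le h hX ⟨x.2, Subgroup.mem_centralizer_iff.2 fun e he =>
    (congrArg Subtype.val (hx ⟨e, he⟩)).symm⟩).imp Subtype.ext Subtype.ext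

include h in
theorem nd_fix [Finite E] (A : Subgroup (MulAut E)) (hA : Odd (Nat.card A)) : Nd (fix A) :=
  fun x => by
    obtain ⟨y, hy, -, hy'⟩ := exists_decomp h A hA ⊤ (fun _ _ _ _ => trivial) (x := x) trivial
    exact ⟨y, hy, hy'⟩

end CfsgLib.CharDeep.ExtraExtend
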