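import Cfsg.Agent.Lib.CharDeep.ExtraExtend.Mat
import Cfsg.Agent.Lib.CharDeep.IrrTools
import Cfsg.Agent.Lib.Char.Orth
import Mathlib.Analysis.SpecialFunctions.Complex.CircleAddChar
import Mathlib.Analysis.RCLike.Basic

/-!
# Traces on a centralizer of an element of prime order with traces of absolute value one

If `S ^ q = 1`, `S` commutes with a finite matrix group `C` and all traces of `S ^ r * c`
(`r ≠ 0`) have absolute value one, then these traces are a constant times one linear character.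
-/

namespace CfsgLib.CharDeep.ExtraExtend

open Matrix ComplexConjugate
open CfsgLib.Char

/-- A natural-valued function on `ZMod q` with small variance. -/
theorem var_le {q : ℕ} [Fact q.Prime] (n : ZMod q → ℕ) (i j : ZMod q) (hij : n i ≠ n j) :
    (q : ℤ) - 1 ≤ q * ∑ k, (n k : ℤ) * n k - (∑ k, (n k : ℤ)) * ∑ k, (n k : ℤ) := by
  classical
  set A := Finset.univ.filter fun k => n k = n i with hA
  have hsum : ∑ k, ∑ l, ((n k : ℤ) - n l) ^ 2 =
      2 * (q * ∑ k, (n k : ℤ) * n k - (∑ k, (n k : ℤ)) * ∑ k, (n k : ℤ)) := by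
    have h : ∀ k l : ZMod q, ((n k : ℤ) - n l) ^ 2 =
        (n k : ℤ) * n k + (n l : ℤ) * n l - 2 * ((n k : ℤ) * n l) := fun k l => by ring
    simp only [h, Finset.sum_add_distrib, Finset.sum_sub_distrib, Finset.sum_const,
      Finset.card_univ, ZMod.card, nsmul_eq_mul, ← Finset.mul_sum, ← Finset.sum_mul]
    ring
  have hlow : (A.card : ℤ) * Aᶜ.card + (Aᶜ.card : ℤ) * A.card ≤
      ∑ k, ∑ l, ((n k : ℤ) - n l) ^ 2 := by
    have one : ∀ k l, n k ≠ n l → (1 : ℤ) ≤ ((n k : ℤ) - n l) ^ 2 := fun k l hkl => by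
      have h0 : ((n k : ℤ) - n l) ^ 2 ≠ 0 := pow_ne_zero _ (sub_ne_zero.2 (by exact_mod_cast hkl))
      have h1 := sq_nonneg ((n k : ℤ) - n l)
      omega
    rw [← Finset.sum_add_sum_compl A]
    refine add_le_add ?_ ?_
    · rw [← nsmul_eq_mul]
      refine Finset.card_nsmul_le_sum _ _ _ fun k hk => ?_
      refine le_trans ?_ (Finset.sum_le_sum_of_subset_of_nonneg (Finset.subset_univ Aᶜ)
        fun _ _ _ => sq_nonneg _)
      rw [← mul_one (Aᶜ.card : ℤ), ← nsmul_eq_mul]
      refine Finset.card_nsmul_le_sum _ _ _ fun l hl => one k l fun hkl => ?_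
      exact Finset.mem_compl.1 hl (Finset.mem_filter.2 ⟨Finset.mem_univ _,
        hkl.symm.trans (Finset.mem_filter.1 hk).2⟩)
    · rw [← nsmul_eq_mul]
      refine Finset.card_nsmul_le_sum _ _ _ fun k hk => ?_
      refine le_trans ?_ (Finset.sum_le_sum_of_subset_of_nonneg (Finset.subset_univ A)
        fun _ _ _ => sq_nonneg _)
      rw [← mul_one (A.card : ℤ), ← nsmul_eq_mul]
      refine Finset.card_nsmul_le_sum _ _ _ fun l hl => one k l fun hkl => ?_
      exact Finset.mem_compl.1 hk (Finset.mem_filter.2 ⟨Finset.mem_univ _,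
        hkl.trans (Finset.mem_filter.1 hl).2⟩)
  have h1 : 1 ≤ A.card := Finset.card_pos.2 ⟨i, Finset.mem_filter.2 ⟨Finset.mem_univ _, rfl⟩⟩
  have h2 : 1 ≤ Aᶜ.card := Finset.card_pos.2 ⟨j, Finset.mem_compl.2 fun h =>
    hij (Finset.mem_filter.1 h).2.symm⟩
  have h3 : A.card + Aᶜ.card = q := by rw [Finset.card_add_card_compl, ZMod.card]
  have h3' : (A.card : ℤ) + Aᶜ.card = q := by exact_mod_cast h3
  have h1' : (1 : ℤ) ≤ A.card := by exact_mod_cast h1
  have h2' : (1 : ℤ) ≤ Aᶜ.card := by exact_mod_cast h2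
  nlinarith [mul_nonneg (sub_nonneg.2 h1') (sub_nonneg.2 h2')]

variable {C : Type*} [Group C] [Finite C] {ι : Type} [Fintype ι] [DecidableEq ι]
  (π : C →* Matrix ι ι ℂ) {S : Matrix ι ι ℂ} {q : ℕ}

/-- The trace of `S ^ r * c`. -/
def tr (S : Matrix ι ι ℂ) (r : ZMod q) (X : C) : ℂ := trace (S ^ r.val * π X)

variable [hq : Fact q.Prime] (hS : S ^ q = 1) (hcomm : ∀ X, S * π X = π X * S)

include hS in
theorem pow_val_add (r s : ZMod q) : S ^ (r + s).val = S ^ r.val * S ^ s.val := by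
  rw [← pow_add, ZMod.val_add, ← pow_eq_pow_mod _ hS]

/-- The representation of `ZMod q × C`. -/
noncomputable def pairHom : Multiplicative (ZMod q) × C →* Matrix ι ι ℂ where
  toFun x := S ^ (Multiplicative.toAdd x.1).val * π x.2
  map_one' := by simp
  map_mul' x y := by
    rw [Prod.fst_mul, Prod.snd_mul, toAdd_mul, pow_val_add hS, map_mul]
    rw [mul_assoc, mul_assoc, ← mul_assoc (S ^ (Multiplicative.toAdd y.1).val) (π x.2),
      (Commute.pow_left (show Commute S (π x.2) from hcomm x.2) _).eq, mul_assoc]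

/-- The linear character of `ZMod q × C` of index `j`. -/
noncomputable def linHom (j : ZMod q) : Multiplicative (ZMod q) × C →* ℂˣ :=
  (MonoidHom.toHomUnits
    { toFun := fun r : Multiplicative (ZMod q) => ZMod.stdAddChar (Multiplicative.toAdd r * j)
      map_one' := by simp
      map_mul' := fun r s => by rw [toAdd_mul, add_mul, AddChar.map_add_eq_mul] }).comp
    (MonoidHom.fst _ C)

omit [Finite C] in
theorem coe_linHom (j : ZMod q) (x : Multiplicative (ZMod q) × C) :
    (linHom j x : ℂ) = ZMod.stdAddChar (Multiplicative.toAdd x.1 * j) := rfl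

include hS hcomm in
/-- Multiplicities of the eigenvalues on one irreducible constituent. -/
theorem exists_mult [Fintype C] (ψ : Cfsg.IrrCharacter C) :
    ∃ n : ZMod q → ℕ, ∀ r : ZMod q, Cfsg.classInner (tr π S r) (ψ : C → ℂ) =
      ∑ j, (n j : ℂ) * ZMod.stdAddChar (r * j) := by
  classical
  have : Fintype (Multiplicative (ZMod q)) := Fintype.ofFinite _
  have hF : Cfsg.IsCharacter (Multiplicative (ZMod q) × C)
      (toRep (pairHom π hS hcomm)).character := isCharacter_of_rep _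
  have hψ : ∀ j : ZMod q, Cfsg.IsCharacter (Multiplicative (ZMod q) × C)
      (fun x => (linHom j x : ℂ) * (ψ : C → ℂ) x.2) := fun j =>
    IsCharacter.mul (IrrTools.isCharacter_of_hom (linHom (C := C) j))
      (IsCharacter.comp (isCharacter_irr ψ) (MonoidHom.snd (Multiplicative (ZMod q)) C))
  choose n hn using fun j => IsCharacter.classInner_nat hF (hψ j)
  refine ⟨n, fun r => ?_⟩
  have hq0 : (q : ℂ) ≠ 0 := Nat.cast_ne_zero.2 hq.out.ne_zero
  have hnj : ∀ j, (n j : ℂ) = (q : ℂ)⁻¹ * ∑ s : ZMod q,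
      conj (ZMod.stdAddChar (s * j)) * Cfsg.classInner (tr π S s) (ψ : C → ℂ) := by
    intro j
    rw [← hn j]
    simp only [Cfsg.classInner, Nat.card_prod, Nat.card_congr Multiplicative.toAdd,
      Nat.card_zmod, Nat.cast_mul, mul_inv, Finset.mul_sum]
    rw [Fintype.sum_prod_type]
    refine (Fintype.sum_equiv Multiplicative.ofAdd _ _ fun s => ?_).symm
    refine Finset.sum_congr rfl fun X _ => ?_
    rw [toRep_character, map_mul (starRingEnd ℂ), coe_linHom]
    simp only [pairHom, MonoidHom.coe_mk, OneHom.coe_mk, toAdd_ofAdd, tr]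
    ring
  simp only [hnj, Finset.mul_sum, Finset.sum_mul]
  rw [Finset.sum_comm, Finset.sum_eq_single r]
  · rw [Finset.sum_eq_card_nsmul (b := (q : ℂ)⁻¹ * Cfsg.classInner (tr π S r) (ψ : C → ℂ))
      fun j _ => ?_, Finset.card_univ, ZMod.card, nsmul_eq_mul, mul_inv_cancel_left₀ hq0]
    rw [← AddChar.map_neg_eq_conj]
    rw [show (q : ℂ)⁻¹ * (ZMod.stdAddChar (-(r * j)) * Cfsg.classInner (tr π S r) (ψ : C → ℂ)) *
      ZMod.stdAddChar (r * j) = (q : ℂ)⁻¹ * Cfsg.classInner (tr π S r) (ψ : C → ℂ) *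
      (ZMod.stdAddChar (-(r * j)) * ZMod.stdAddChar (r * j)) by ring,
      ← AddChar.map_add_eq_mul, neg_add_cancel, AddChar.map_zero_eq_one, mul_one]
  · intro s _ hs
    have h0 := AddChar.sum_mulShift (r - s) (ZMod.isPrimitive_stdAddChar q)
    rw [if_neg (sub_ne_zero.2 (Ne.symm hs)), Nat.cast_zero] at h0
    calc _ = (q : ℂ)⁻¹ * Cfsg.classInner (tr π S s) (ψ : C → ℂ) *
          ∑ j : ZMod q, ZMod.stdAddChar (j * (r - s)) := by
          rw [Finset.mul_sum]
          refine Finset.sum_congr rfl fun j _ => ?_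
          rw [← AddChar.map_neg_eq_conj, show j * (r - s) = -(s * j) + r * j by ring,
            AddChar.map_add_eq_mul]
          ring
      _ = 0 := by rw [h0, mul_zero]
  · exact fun hr => absurd (Finset.mem_univ r) hr

include hS hcomm in
/-- The traces are a constant times a linear character. -/
theorem exists_linear (hone : ∀ r : ZMod q, r ≠ 0 → ∀ X, tr π S r X * conj (tr π S r X) = 1) :
    ∃ lam : C →* ℂˣ, ∀ r : ZMod q, r ≠ 0 → ∀ X, tr π S r X = tr π S r 1 * lam X := by
  classical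
  cases nonempty_fintype C
  have hcl : ∀ r : ZMod q, Cfsg.IsClassFunction C (tr π S r) := fun r g k => by
    unfold tr
    rw [map_mul, map_mul, ← mul_assoc, ← mul_assoc,
      (Commute.pow_left (show Commute S (π k) from hcomm k) _).eq, trace_mul_comm,
      ← mul_assoc, ← mul_assoc, ← map_mul, inv_mul_cancel, map_one, one_mul]
  choose n hn using exists_mult π hS hcomm
  set a := fun (ψ : Cfsg.IrrCharacter C) (r : ZMod q) =>
    Cfsg.classInner (tr π S r) (ψ : C → ℂ) with ha
  set D : Cfsg.IrrCharacter C → ℤ := fun ψ =>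
    q * ∑ k, (n ψ k : ℤ) * n ψ k - (∑ k, (n ψ k : ℤ)) * ∑ k, (n ψ k : ℤ) with hDdef
  have hD : ∀ ψ, (D ψ : ℂ) = ∑ r ∈ Finset.univ.erase (0 : ZMod q), a ψ r * conj (a ψ r) := by
    intro ψ
    rw [Finset.sum_erase_eq_sub (Finset.mem_univ _)]
    have h0 : a ψ 0 = ∑ k, (n ψ k : ℂ) := by
      rw [ha]; dsimp only
      rw [hn ψ 0]
      simp
    have hall : ∑ r, a ψ r * conj (a ψ r) = (q : ℂ) * ∑ k, (n ψ k : ℂ) * n ψ k := by
      calc _ = ∑ r : ZMod q, ∑ j : ZMod q, ∑ k : ZMod q,
            (n ψ j : ℂ) * n ψ k * ZMod.stdAddChar (r * (j - k)) := by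
            refine Finset.sum_congr rfl fun r _ => ?_
            rw [ha]; dsimp only
            rw [hn ψ r, map_sum, Finset.sum_mul_sum]
            refine Finset.sum_congr rfl fun j _ => Finset.sum_congr rfl fun k _ => ?_
            rw [map_mul (starRingEnd ℂ), map_natCast, ← AddChar.map_neg_eq_conj,
              show r * (j - k) = r * j + -(r * k) by ring, AddChar.map_add_eq_mul]
            ring
        _ = _ := by
            rw [Finset.sum_comm, Finset.mul_sum]
            refine Finset.sum_congr rfl fun j _ => ?_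
            rw [Finset.sum_comm, Finset.sum_eq_single j]
            · simp [ZMod.card]
            · intro k _ hk
              have h1 := AddChar.sum_mulShift (j - k) (ZMod.isPrimitive_stdAddChar q)
              rw [if_neg (sub_ne_zero.2 (Ne.symm hk)), Nat.cast_zero] at h1
              rw [← Finset.mul_sum, h1, mul_zero]
            · simp
    rw [hall, h0, map_sum, hDdef]
    simp
  have hpar : ∀ r : ZMod q, r ≠ 0 → ∑ ψ, a ψ r * conj (a ψ r) = 1 := by
    intro r hr
    have h1 : Cfsg.classInner (tr π S r) (tr π S r) = 1 := by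
      rw [Cfsg.classInner, Finset.sum_congr rfl fun X _ => hone r hr X, Finset.sum_const,
        Finset.card_univ, nsmul_eq_mul, mul_one, Nat.card_eq_fintype_card,
        inv_mul_cancel₀ (Nat.cast_ne_zero.2 Fintype.card_ne_zero)]
    rw [← h1, classInner_eq_sum_irr (hcl r)]
    exact Finset.sum_congr rfl fun ψ _ => by rw [ha, classInner_conj_symm]
  have htot : ∑ ψ, D ψ = (q : ℤ) - 1 := by
    have : ((∑ ψ, D ψ : ℤ) : ℂ) = (((q : ℤ) - 1 : ℤ) : ℂ) := by
      rw [Int.cast_sum, Finset.sum_congr rfl fun ψ _ => hD ψ, Finset.sum_comm,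
        Finset.sum_congr rfl fun r hr => hpar r (Finset.ne_of_mem_erase hr), Finset.sum_const,
        Finset.card_erase_of_mem (Finset.mem_univ _), Finset.card_univ, ZMod.card, nsmul_eq_mul,
        mul_one, Nat.cast_sub hq.out.one_le]
      push_cast
      ring
    exact_mod_cast this
  have hdich : ∀ ψ, D ψ = 0 ∨ (q : ℤ) - 1 ≤ D ψ := fun ψ => by
    by_cases h : ∃ i j, n ψ i ≠ n ψ j
    · obtain ⟨i, j, hij⟩ := h
      exact Or.inr (var_le _ i j hij)
    · push Not at h
      refine Or.inl ?_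
      show (q : ℤ) * _ - _ = 0
      rw [Finset.sum_congr rfl fun k _ => by rw [h k 0],
        Finset.sum_congr rfl fun k (_ : k ∈ Finset.univ) => show ((n ψ k : ℤ)) = n ψ 0 by rw [h k 0]]
      simp only [Finset.sum_const, Finset.card_univ, ZMod.card, nsmul_eq_mul]
      ring
  have hzero : ∀ ψ, D ψ = 0 → ∀ r : ZMod q, r ≠ 0 → a ψ r = 0 := by
    intro ψ h0 r hr
    have h1 := hD ψ
    rw [h0, Int.cast_zero] at h1
    have h2 : ∑ r ∈ Finset.univ.erase (0 : ZMod q), Complex.normSq (a ψ r) = 0 := by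
      have : ((∑ r ∈ Finset.univ.erase (0 : ZMod q), Complex.normSq (a ψ r) : ℝ) : ℂ) = 0 := by
        rw [Complex.ofReal_sum, h1]
        exact Finset.sum_congr rfl fun r _ => (Complex.mul_conj _).symm
      exact_mod_cast this
    exact Complex.normSq_eq_zero.1 ((Finset.sum_eq_zero_iff_of_nonneg fun r _ =>
      Complex.normSq_nonneg _).1 h2 r (Finset.mem_erase.2 ⟨hr, Finset.mem_univ _⟩))
  have hq1 : (0 : ℤ) < (q : ℤ) - 1 := by have := hq.out.two_le; omega
  obtain ⟨ψ₀, hψ₀⟩ : ∃ ψ, D ψ ≠ 0 := by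
    by_contra hc
    push Not at hc
    rw [Finset.sum_eq_zero fun ψ _ => hc ψ] at htot
    omega
  have hrest : ∀ ψ, ψ ≠ ψ₀ → D ψ = 0 := fun ψ hψ => by
    refine (hdich ψ).resolve_right fun hge => ?_
    have hge₀ := (hdich ψ₀).resolve_left hψ₀
    have hnn : ∀ φ, 0 ≤ D φ := fun φ => (hdich φ).elim (fun h => h.ge) fun h => by omega
    have h2 : D ψ + D ψ₀ ≤ ∑ φ, D φ := by
      rw [← Finset.sum_pair hψ]
      exact Finset.sum_le_sum_of_subset_of_nonneg (Finset.subset_univ _) fun φ _ _ => hnn φ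
    omega
  have hf : ∀ r : ZMod q, r ≠ 0 → ∀ X, tr π S r X = a ψ₀ r * (ψ₀ : C → ℂ) X := by
    intro r hr X
    conv_lhs => rw [IsClassFunction.eq_sum_irr (hcl r)]
    rw [Finset.sum_apply, Finset.sum_eq_single ψ₀]
    · rfl
    · intro ψ _ hψ
      show Cfsg.classInner (tr π S r) (ψ : C → ℂ) * _ = 0
      rw [show Cfsg.classInner (tr π S r) (ψ : C → ℂ) = a ψ r from rfl,
        hzero ψ (hrest ψ hψ) r hr, zero_mul]
    · simp
  obtain ⟨d, hd, hd1⟩ := IsIrrCharacter.apply_one_eq ψ₀.2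
  have h10 : (1 : ZMod q) ≠ 0 := one_ne_zero
  have hnorm1 : a ψ₀ 1 * conj (a ψ₀ 1) = 1 := by
    refine Eq.trans ?_ (hpar 1 h10)
    rw [Finset.sum_eq_single ψ₀]
    · intro ψ _ hψ
      rw [hzero ψ (hrest ψ hψ) 1 h10, zero_mul]
    · exact fun h => absurd (Finset.mem_univ _) h
  have hdone : d = 1 := by
    have h1 := hone 1 h10 1
    rw [hf 1 h10, map_mul, hd1, map_natCast, show a ψ₀ 1 * (d : ℂ) * (conj (a ψ₀ 1) * d) =
      a ψ₀ 1 * conj (a ψ₀ 1) * (d * d) by ring, hnorm1, one_mul] at h1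
    exact Nat.eq_one_of_mul_eq_one_right (by exact_mod_cast h1)
  subst hdone
  rw [Nat.cast_one] at hd1
  obtain ⟨lam, hlam⟩ := IrrTools.exists_hom_of_degree_one (isCharacter_irr ψ₀) hd1
  exact ⟨lam, fun r hr X => by rw [hf r hr X, hf r hr 1, hd1, mul_one, hlam]⟩

end CfsgLib.CharDeep.ExtraExtend
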